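import Cfsg.Agent.Lib.ThreeSquareDihedral.Embedding

/-!
# The linear character forced by `3^2:D8`

* `Embedded.exists_kernel` : a normal subgroup of index at least two containing the plane and the
  rotations, but no reflection
-/

set_option autoImplicit false

namespace Cfsg.Agent.ThreeSquareDihedral

open Cfsg Cfsg.Agent.Char
open scoped ComplexConjugate

/-- The value of the linear character at an element of the model. -/
def signVal (β δ : ℤ) (x : Q) : ℤ :=
  match kind x with
  | .invAxis | .sixAxis => β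
  | .invDiag | .sixDiag => δ
  | _ => 1

theorem sum_signVal : ∀ f ∈ [fA, fB, fC, fD], ∀ β ∈ ([1, -1] : List ℤ), ∀ δ ∈ ([1, -1] : List ℤ),
    ∑ x, f x * signVal β δ x = -72 → β = -1 ∧ δ = -1 := by
  decide +kernel

theorem plane_comm : ∀ v : Q, v.right = 1 → v = tCent * v * tCent⁻¹ * v⁻¹ := by decide +kernel

theorem refl_decomp : ∀ x : Q, (kind x = .invAxis ∨ kind x = .sixAxis →
      ∃ y : Q, ∃ z : Q, z.right = 1 ∧ x = y * tAxis * y⁻¹ * z) ∧
    (kind x = .invDiag ∨ kind x = .sixDiag →
      ∃ y : Q, ∃ z : Q, z.right = 1 ∧ x = y * tDiag * y⁻¹ * z) := by decide +kernel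

theorem refl_sq : tAxis * tAxis = 1 ∧ tDiag * tDiag = 1 := by decide +kernel

theorem kind_of_not_refl : ∀ x : Q, kind x = .one ∨ kind x = .axisPt ∨ kind x = .diagPt →
    x.right = 1 := by decide +kernel

theorem rot_decomp : ∀ x : Q, kind x = .invCent ∨ kind x = .four → ∃ z : Q, z.right = 1 ∧
    (x = tAxis * tDiag * z ∨ x = tDiag * tAxis * z ∨ x = tAxis * tDiag * (tAxis * tDiag) * z) := by
  decide +kernel

variable {G : Type*} [Group G] [Finite G] {π : Q →* G}

theorem Embedded.exists_kernel (E : Embedded π) :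
    ∃ K : Subgroup G, K.Normal ∧ (∀ x : Q, x.right = 1 → π x ∈ K) ∧
      (∀ x : Q, π x ∈ K ↔ kind x ≠ .invAxis ∧ kind x ≠ .sixAxis ∧ kind x ≠ .invDiag ∧ kind x ≠ .sixDiag) := by
  classical
  have := Fintype.ofFinite G
  obtain ⟨l, f, hf, hsum⟩ : ∃ l : G →* ℂ, ∃ f ∈ [fA, fB, fC, fD],
      ∑ x, (f x : ℂ) * conj (l (π x)) = -72 := by
    by_contra h
    exact E.false_of_linear fun l f hf e => h ⟨l, f, hf, e⟩
  have hl : ∀ g, l g ≠ 0 := fun g h => by
    have := map_mul l g g⁻¹
    rw [mul_inv_cancel, map_one, h, zero_mul] at this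
    exact one_ne_zero this
  have hconj : ∀ y w : Q, l (π (y * w * y⁻¹)) = l (π w) := fun y w => by
    have hy : l (π y) * l (π y⁻¹) = 1 := by rw [← map_mul, ← map_mul, mul_inv_cancel, map_one, map_one]
    rw [map_mul, map_mul, map_mul, map_mul]
    linear_combination l (π w) * hy
  have hplane : ∀ z : Q, z.right = 1 → l (π z) = 1 := fun z hz => by
    rw [plane_comm z hz, map_mul π, map_mul l, hconj, ← map_mul, ← map_mul, mul_inv_cancel, map_one,
      map_one]
  have hpm : ∀ t : Q, t * t = 1 → ∃ β ∈ ([1, -1] : List ℤ), l (π t) = (β : ℂ) := fun t ht => by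
    have h : l (π t) * l (π t) = 1 := by rw [← map_mul, ← map_mul, ht, map_one, map_one]
    rcases mul_self_eq_one_iff.mp h with e | e
    · exact ⟨1, by simp, by rw [e]; norm_num⟩
    · exact ⟨-1, by simp, by rw [e]; norm_num⟩
  obtain ⟨β, hβ, hA⟩ := hpm tAxis refl_sq.1
  obtain ⟨δ, hδ, hD⟩ := hpm tDiag refl_sq.2
  have hrefl : ∀ x : Q, (kind x = .invAxis ∨ kind x = .sixAxis → l (π x) = (β : ℂ)) ∧
      (kind x = .invDiag ∨ kind x = .sixDiag → l (π x) = (δ : ℂ)) := fun x => by
    constructor <;> intro hk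
    · obtain ⟨y, z, hz, rfl⟩ := (refl_decomp x).1 hk
      rw [map_mul π, map_mul l, hconj, hplane z hz, mul_one, hA]
    · obtain ⟨y, z, hz, rfl⟩ := (refl_decomp x).2 hk
      rw [map_mul π, map_mul l, hconj, hplane z hz, mul_one, hD]
  have hval : ∀ x, (f x : ℂ) * conj (l (π x)) = ((f x * signVal β δ x : ℤ) : ℂ) := fun x => by
    by_cases h0 : f x = 0
    · simp [h0]
    · have hsp : IsSpecial x := by
        simp only [List.mem_cons, List.not_mem_nil, or_false] at hf
        rcases hf with rfl | rfl | rfl | rfl <;> exact isSpecial_of_special h0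
      push_cast
      rcases hsp with k | k | k | k <;> simp only [signVal, k]
      · rw [hplane x (kind_of_not_refl x (Or.inr (Or.inl k)))]; simp
      · rw [hplane x (kind_of_not_refl x (Or.inr (Or.inr k)))]; simp
      · rw [(hrefl x).1 (Or.inr k)]; simp
      · rw [(hrefl x).2 (Or.inr k)]; simp
  rw [Finset.sum_congr rfl fun x _ => hval x] at hsum
  obtain ⟨hβ1, hδ1⟩ := sum_signVal f hf β hβ δ hδ (by exact_mod_cast hsum)
  subst hβ1 hδ1
  push_cast at hA hD hrefl
  refine ⟨l.ker, l.normal_ker, fun x hx => MonoidHom.mem_ker.mpr (hplane x hx), fun x => ?_⟩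
  rw [MonoidHom.mem_ker]
  constructor
  · intro h
    refine ⟨?_, ?_, ?_, ?_⟩ <;> intro k
    · rw [(hrefl x).1 (Or.inl k)] at h; norm_num at h
    · rw [(hrefl x).1 (Or.inr k)] at h; norm_num at h
    · rw [(hrefl x).2 (Or.inl k)] at h; norm_num at h
    · rw [(hrefl x).2 (Or.inr k)] at h; norm_num at h
  · rintro ⟨h1, h2, h3, h4⟩
    have : (kind x = .one ∨ kind x = .axisPt ∨ kind x = .diagPt) ∨ (kind x = .invCent ∨ kind x = .four) := by
      rcases hk : kind x with _ | _ | _ | _ | _ | _ | _ | _ | _ <;> simp_all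
    rcases this with h | h
    · exact hplane x (kind_of_not_refl x h)
    · obtain ⟨z, hz, e | e | e⟩ := rot_decomp x h <;> rw [e] <;>
        simp only [map_mul, hplane z hz, hA, hD] <;> norm_num

end Cfsg.Agent.ThreeSquareDihedral
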