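import Cfsg.Agent.Lib.ThreeSquareDihedral.Model

/-!
# Monomial bases for dihedral groups acting on the plane

* `linMap`, `linMap_of_add`
* `linMap_pow_24`, `exists_monomial_basis`
-/

set_option autoImplicit false

namespace Cfsg.Agent.ThreeSquareDihedral

/-- The linear map with the given images of the standard basis. -/
def linMap (p : V × V) (v : V) : V := v.1 • p.1 + v.2 • p.2

theorem linMap_of_add (f : V →+ V) : ⇑f = linMap (f (1, 0), f (0, 1)) := by
  funext v
  obtain ⟨a, b⟩ := v
  have : ((a, b) : V) = a.val • ((1, 0) : V) + b.val • ((0, 1) : V) := by revert a b; decide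
  rw [linMap]
  conv_lhs => rw [this, map_add, map_nsmul, map_nsmul]
  simp only [← Nat.cast_smul_eq_nsmul (ZMod 3), ZMod.natCast_val, ZMod.cast_id', id_eq]

theorem linMap_add : ∀ p v w, linMap p (v + w) = linMap p v + linMap p w := by decide +kernel

theorem linMap_pow_24 : ∀ p, (∀ v, linMap p v = 0 → v = 0) → ∀ v, (linMap p)^[24] v = v := by
  decide +kernel

set_option synthInstance.maxSize 2000 in
theorem exists_monomial_basis : ∀ R : V × V, (∀ v, (linMap R)^[4] v = v) →
    (∃ v, (linMap R)^[2] v ≠ v) → ∀ S : V × V, (∀ v, (linMap S)^[2] v = v) →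
    (∀ v, linMap R (linMap S (linMap R v)) = linMap S v) →
    ∃ P : V × V, (∀ v, linMap P v = 0 → v = 0) ∧
      (∀ v, linMap P (act (DihedralGroup.r 1) v) = linMap R (linMap P v)) ∧
      ∀ v, linMap P (act (DihedralGroup.sr 0) v) = linMap S (linMap P v) := by decide +kernel

theorem dihedral_cases : ∀ g : DihedralGroup 4, ∃ i : Fin 4,
    g = DihedralGroup.r 1 ^ (i : ℕ) ∨ g = DihedralGroup.sr 0 * DihedralGroup.r 1 ^ (i : ℕ) := by
  decide

end Cfsg.Agent.ThreeSquareDihedral
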