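import Cfsg.Agent.Lib.ThreeSquareDihedral.Model
import Cfsg.Agent.Lib.Char.Induced
import Cfsg.Agent.Lib.Char.Virtual

/-!
# The four special class functions are generalized characters

* `gen_A`, `gen_B`, `gen_C`, `gen_D`
-/

set_option autoImplicit false

namespace Cfsg.Agent.ThreeSquareDihedral

open Cfsg Cfsg.Agent.Char

/-- The coefficient of `ζ ^ k` in `σ₁ ζ^e₁ - σ₂ ζ^e₂`. -/
def coef (σ₁ : Q → ℤ) (e₁ : Q → ZMod 3) (σ₂ : Q → ℤ) (e₂ : Q → ZMod 3) (k : ZMod 3) (x : Q) : ℤ :=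
  (if e₁ x = k then σ₁ x else 0) - (if e₂ x = k then σ₂ x else 0)

/-- The table check for an induced difference of linear characters. -/
def IndTable (S : Q → Bool) (σ₁ : Q → ℤ) (e₁ : Q → ZMod 3) (σ₂ : Q → ℤ) (e₂ : Q → ZMod 3)
    (f : Q → ℤ) : Prop :=
  ∀ g, (∑ x, if S (x⁻¹ * g * x) then coef σ₁ e₁ σ₂ e₂ 0 (x⁻¹ * g * x) else 0) -
      (∑ x, if S (x⁻¹ * g * x) then coef σ₁ e₁ σ₂ e₂ 2 (x⁻¹ * g * x) else 0) =
        ((Finset.univ.filter fun x => S x = true).card : ℤ) * f g ∧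
    (∑ x, if S (x⁻¹ * g * x) then coef σ₁ e₁ σ₂ e₂ 1 (x⁻¹ * g * x) else 0) =
      ∑ x, if S (x⁻¹ * g * x) then coef σ₁ e₁ σ₂ e₂ 2 (x⁻¹ * g * x) else 0

/-- A set closed under products with two linear characters. -/
def LinData (S : Q → Bool) (σ : Q → ℤ) (e : Q → ZMod 3) : Prop :=
  (S 1 = true ∧ σ 1 = 1 ∧ e 1 = 0) ∧ ∀ x, S x = true → ∀ y, S y = true →
    S (x * y) = true ∧ σ (x * y) = σ x * σ y ∧ e (x * y) = e x + e y

theorem isGeneralized_of_table {S : Q → Bool} {σ₁ σ₂ : Q → ℤ} {e₁ e₂ : Q → ZMod 3} {f : Q → ℤ}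
    (h₁ : LinData S σ₁ e₁) (h₂ : LinData S σ₂ e₂) (hinv : ∀ x, S x = true → S x⁻¹ = true)
    (hT : IndTable S σ₁ e₁ σ₂ e₂ f) : IsGeneralizedCharacter Q (fun x => (f x : ℂ)) := by
  classical
  obtain ⟨ζ, hζ⟩ : ∃ z : ℂ, IsPrimitiveRoot z 3 := ⟨_, Complex.isPrimitiveRoot_exp 3 (by norm_num)⟩
  have hζ3 : ζ ^ 3 = 1 := hζ.pow_eq_one
  have hζs : 1 + ζ + ζ ^ 2 = 0 := by
    have := hζ.geom_sum_eq_zero (by norm_num)
    simpa [Finset.sum_range_succ] using this
  have hadd : ∀ a b : ZMod 3, ζ ^ (a + b).val = ζ ^ a.val * ζ ^ b.val := by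
    intro a b
    rw [← pow_add, ZMod.val_add, pow_eq_pow_mod (a.val + b.val) hζ3]
  let A : Subgroup Q :=
    { carrier := {x | S x = true}
      one_mem' := h₁.1.1
      mul_mem' := fun {a b} ha hb => (h₁.2 a ha b hb).1
      inv_mem' := fun {a} ha => hinv a ha }
  let l : ∀ {σ : Q → ℤ} {e : Q → ZMod 3}, LinData S σ e → (A →* ℂ) := fun {σ} {e} h =>
    { toFun := fun a => (σ a.1 : ℂ) * ζ ^ (e a.1).val
      map_one' := by simp [h.1.2.1, h.1.2.2]
      map_mul' := fun a b => by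
        obtain ⟨-, hs, he⟩ := h.2 a.1 a.2 b.1 b.2
        simp only [Subgroup.coe_mul, hs, he, hadd, Int.cast_mul]
        ring }
  let θ : A → ℂ := (l h₁ : A → ℂ) - (l h₂ : A → ℂ)
  have hgen : IsGeneralizedCharacter Q (indFun A θ) :=
    IsGeneralizedCharacter.indFun (H := A)
      ⟨l h₁, l h₂, isCharacter_of_hom _, isCharacter_of_hom _, rfl⟩
  convert hgen using 1
  funext g
  have hcoef : ∀ y (hy : S y = true), θ ⟨y, hy⟩ =
      (coef σ₁ e₁ σ₂ e₂ 0 y : ℂ) + (coef σ₁ e₁ σ₂ e₂ 1 y : ℂ) * ζ +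
        (coef σ₁ e₁ σ₂ e₂ 2 y : ℂ) * ζ ^ 2 := by
    intro y hy
    have key : ∀ (s : ℤ) (k : ZMod 3), (s : ℂ) * ζ ^ k.val =
        ((if k = 0 then s else 0 : ℤ) : ℂ) + ((if k = 1 then s else 0 : ℤ) : ℂ) * ζ +
          ((if k = 2 then s else 0 : ℤ) : ℂ) * ζ ^ 2 := by
      intro s k
      have hk : k = 0 ∨ k = 1 ∨ k = 2 := by revert k; decide
      rcases hk with rfl | rfl | rfl <;>
        simp [show (1 : ZMod 3).val = 1 from rfl, show (2 : ZMod 3).val = 2 from rfl,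
          show (1 : ZMod 3) ≠ 0 by decide, show (2 : ZMod 3) ≠ 0 by decide,
          show (1 : ZMod 3) ≠ 2 by decide, show (2 : ZMod 3) ≠ 1 by decide,
          show (0 : ZMod 3) ≠ 1 by decide, show (0 : ZMod 3) ≠ 2 by decide]
    show (σ₁ y : ℂ) * ζ ^ (e₁ y).val - (σ₂ y : ℂ) * ζ ^ (e₂ y).val = _
    rw [key, key]
    simp only [coef, Int.cast_sub]
    ring
  have hterm : ∀ x : Q, extendByZero A θ (x⁻¹ * g * x) =
      ((if S (x⁻¹ * g * x) then coef σ₁ e₁ σ₂ e₂ 0 (x⁻¹ * g * x) else 0 : ℤ) : ℂ) +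
        ((if S (x⁻¹ * g * x) then coef σ₁ e₁ σ₂ e₂ 1 (x⁻¹ * g * x) else 0 : ℤ) : ℂ) * ζ +
        ((if S (x⁻¹ * g * x) then coef σ₁ e₁ σ₂ e₂ 2 (x⁻¹ * g * x) else 0 : ℤ) : ℂ) * ζ ^ 2 := by
    intro x
    by_cases h : S (x⁻¹ * g * x) = true
    · rw [extendByZero_mem A θ (show x⁻¹ * g * x ∈ A from h), if_pos h, if_pos h, if_pos h]
      exact hcoef _ h
    · rw [extendByZero_not_mem A θ (show x⁻¹ * g * x ∉ A from h), if_neg h, if_neg h, if_neg h]
      simp
  have hcard : Nat.card A = (Finset.univ.filter fun x => S x = true).card := by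
    exact Nat.subtype_card _ fun x => by simp [A]
  obtain ⟨t1, t2⟩ := hT g
  unfold indFun
  simp only [hterm, Finset.sum_add_distrib, ← Finset.sum_mul, ← Int.cast_sum]
  rw [t2, hcard]
  have t1' := congrArg (Int.cast : ℤ → ℂ) t1
  push_cast at t1' ⊢
  have hc : ((Finset.univ.filter fun x => S x = true).card : ℂ) ≠ 0 :=
    Nat.cast_ne_zero.2 (Finset.card_ne_zero.2 ⟨1, by simpa using h₁.1.1⟩)
  rw [eq_inv_mul_iff_mul_eq₀ hc]
  linear_combination -t1' - (∑ x, (if S (x⁻¹ * g * x) then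
    (coef σ₁ e₁ σ₂ e₂ 2 (x⁻¹ * g * x) : ℂ) else 0)) * hζs

/-- The subgroups fixing an axis, a diagonal, everything. -/
def sAxis (x : Q) : Bool := decide (x.right = 1 ∨ x.right = DihedralGroup.sr 0)
@[inherit_doc sAxis] def sDiag (x : Q) : Bool := decide (x.right = 1 ∨ x.right = DihedralGroup.sr 1)
@[inherit_doc sAxis] def sPlane (x : Q) : Bool := decide (x.right = 1)

/-- The sign of the point group. -/
def pointSign (x : Q) : ℤ := if x.right = 1 then 1 else -1

/-- Coordinates as exponents. -/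
def expA (x : Q) : ZMod 3 := x.left.toAdd.1
@[inherit_doc expA] def expB (x : Q) : ZMod 3 := x.left.toAdd.2

theorem gen_A : IsGeneralizedCharacter Q (fun x => (fA x : ℂ)) :=
  isGeneralized_of_table (S := sAxis) (σ₁ := fun _ => 1) (e₁ := fun _ => 0) (σ₂ := fun _ => 1)
    (e₂ := expA) (by unfold LinData; decide +kernel) (by unfold LinData; decide +kernel)
    (by decide +kernel) (by unfold IndTable; decide +kernel)

theorem gen_B : IsGeneralizedCharacter Q (fun x => (fB x : ℂ)) :=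
  isGeneralized_of_table (S := sDiag) (σ₁ := fun _ => 1) (e₁ := fun _ => 0) (σ₂ := fun _ => 1)
    (e₂ := fun x => expA x - expB x)
    (by unfold LinData; decide +kernel) (by unfold LinData; decide +kernel)
    (by decide +kernel) (by unfold IndTable; decide +kernel)

theorem gen_B' : IsGeneralizedCharacter Q (fun x => (special 6 3 0 (-3) x : ℂ)) :=
  isGeneralized_of_table (S := sDiag) (σ₁ := pointSign) (e₁ := fun _ => 0) (σ₂ := pointSign)
    (e₂ := fun x => expA x - expB x)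
    (by unfold LinData; decide +kernel) (by unfold LinData; decide +kernel)
    (by decide +kernel) (by unfold IndTable; decide +kernel)

theorem gen_E : IsGeneralizedCharacter Q (fun x => (special 6 (-6) 0 0 x : ℂ)) :=
  isGeneralized_of_table (S := sPlane) (σ₁ := fun _ => 1) (e₁ := expB) (σ₂ := fun _ => 1)
    (e₂ := fun x => expA x + expB x)
    (by unfold LinData; decide +kernel) (by unfold LinData; decide +kernel)
    (by decide +kernel) (by unfold IndTable; decide +kernel)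

theorem fC_eq : ∀ x, fC x = fA x + special 6 (-6) 0 0 x - special 6 3 0 (-3) x := by decide +kernel

theorem fD_eq : ∀ x, fD x = fA x - special 6 3 0 (-3) x := by decide +kernel

theorem gen_C : IsGeneralizedCharacter Q (fun x => (fC x : ℂ)) := by
  convert IsGeneralizedCharacter.sub (IsGeneralizedCharacter.add gen_A gen_E) gen_B' using 1
  funext x
  simp only [Pi.add_apply, Pi.sub_apply, fC_eq x]
  push_cast
  ring

theorem gen_D : IsGeneralizedCharacter Q (fun x => (fD x : ℂ)) := by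
  convert IsGeneralizedCharacter.sub gen_A gen_B' using 1
  funext x
  simp only [Pi.sub_apply, fD_eq x]
  push_cast
  ring

end Cfsg.Agent.ThreeSquareDihedral
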