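import Cfsg.Agent.Lib.ThreeSquareDihedral.Algebra
import Cfsg.Agent.Lib.ThreeSquareDihedral.ModelChar
import Cfsg.Agent.Lib.Char.ClassMult
import Cfsg.Agent.Lib.Char.Linear
import Mathlib

/-!
# No simple group has `3^2:D8` as such a Sylow normalizer

* `Embedded`: the model as the normalizer of a self-centralizing plane
* `Embedded.false_of_linear`, `Embedded.false_of_simple`
-/

set_option autoImplicit false

namespace Cfsg.Agent.ThreeSquareDihedral

open Cfsg Cfsg.Agent.Char
open scoped ComplexConjugate Pointwise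

variable {G : Type*} [Group G]

/-- An embedding of the model as the normalizer of its plane. -/
structure Embedded (π : Q →* G) : Prop where
  inj : Function.Injective π
  norm : ∀ g : G, (∀ x : Q, x.right = 1 → ∃ y : Q, y.right = 1 ∧ π y = g * π x * g⁻¹) → g ∈ π.range
  cent : ∀ x : Q, x.right = 1 → x ≠ 1 → Subgroup.centralizer ({π x} : Set G) ≤ π.range

/-- The special elements. -/
def IsSpecial (x : Q) : Prop :=
  kind x = .axisPt ∨ kind x = .diagPt ∨ kind x = .sixAxis ∨ kind x = .sixDiag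

theorem isSpecial_of_special {p q t u : ℤ} {x : Q} (h : special p q t u x ≠ 0) : IsSpecial x := by
  unfold special at h
  unfold IsSpecial
  cases e : kind x <;> simp_all

/-- A class function of the model which is a generalized character on the special elements. -/
structure Fun (f : Q → ℤ) : Prop where
  cls : ∀ x y, f (y * x * y⁻¹) = f x
  supp : ∀ x, f x ≠ 0 → IsSpecial x
  gen : IsGeneralizedCharacter Q (fun x => (f x : ℂ))

theorem fun_A : Fun fA := ⟨special_conj _ _ _ _, fun _ => isSpecial_of_special, gen_A⟩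
theorem fun_B : Fun fB := ⟨special_conj _ _ _ _, fun _ => isSpecial_of_special, gen_B⟩
theorem fun_C : Fun fC := ⟨special_conj _ _ _ _, fun _ => isSpecial_of_special, gen_C⟩
theorem fun_D : Fun fD := ⟨special_conj _ _ _ _, fun _ => isSpecial_of_special, gen_D⟩

variable {π : Q →* G}

theorem Embedded.ti (E : Embedded π) {x y : Q} (hx : x.right = 1) (hx1 : x ≠ 1) {g : G}
    (hy : π y = g * π x * g⁻¹) : g ∈ π.range := by
  refine E.norm g fun s hs => ?_
  have hy3 : y * y * y = 1 := E.inj (by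
    rw [map_mul, map_mul, hy, map_one,
      show g * π x * g⁻¹ * (g * π x * g⁻¹) * (g * π x * g⁻¹) = g * (π x * π x * π x) * g⁻¹ by group,
      ← map_mul, ← map_mul, cube_of_right x hx, map_one]
    group)
  have hyr := right_of_cube y hy3
  have hy1 : y ≠ 1 := by
    intro h
    rw [h, map_one, eq_comm, mul_inv_eq_one, mul_eq_left] at hy
    exact hx1 (E.inj (hy.trans (map_one π).symm))
  have hmem : g * π s * g⁻¹ ∈ π.range := by
    refine E.cent y hyr hy1 (Subgroup.mem_centralizer_singleton_iff.2 ?_)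
    rw [hy]
    calc g * π s * g⁻¹ * (g * π x * g⁻¹) = g * π (s * x) * g⁻¹ := by rw [map_mul]; group
      _ = g * π (x * s) * g⁻¹ := by rw [comm_of_right s x hs hx]
      _ = _ := by rw [map_mul]; group
  obtain ⟨z, hz⟩ := hmem
  refine ⟨z, right_of_cube z (E.inj ?_), hz⟩
  rw [map_mul, map_mul, hz, map_one,
    show g * π s * g⁻¹ * (g * π s * g⁻¹) * (g * π s * g⁻¹) = g * (π s * π s * π s) * g⁻¹ by group,
    ← map_mul, ← map_mul, cube_of_right s hs, map_one]
  group

/-- Conjugation controlling the special elements. -/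
theorem Embedded.special_ti (E : Embedded π) {x y : Q} (hx : IsSpecial x) {g : G}
    (hy : π y = g * π x * g⁻¹) : ∃ z, π z = g ∧ y = z * x * z⁻¹ := by
  obtain ⟨h1, h2⟩ := special_pow x hx
  obtain ⟨z, rfl⟩ := E.ti h1 h2 (y := y * y * (y * y)) (g := g) (by
    simp only [map_mul, hy]; group)
  exact ⟨z, rfl, E.inj (by rw [hy]; simp)⟩

theorem Embedded.mem_plane_of_pow (E : Embedded π) {h : G} (hh : h ∈ π.range) {n : ℕ}
    (hn : h ^ 3 ^ n = 1) : ∃ x : Q, x.right = 1 ∧ π x = h := by
  obtain ⟨x, rfl⟩ := hh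
  refine ⟨x, ?_, rfl⟩
  have e1 : x ^ 3 ^ n = 1 := E.inj (by rw [map_pow, hn, map_one])
  have e2 : x.right ^ 3 ^ n = 1 := by
    have := congrArg (SemidirectProduct.rightHom : Q →* DihedralGroup 4) e1
    rwa [map_pow, map_one] at this
  have e3 : x.right ^ 8 = 1 := (by decide : ∀ g : DihedralGroup 4, g ^ 8 = 1) x.right
  have := pow_gcd_eq_one.2 ⟨e2, e3⟩
  rwa [show Nat.gcd (3 ^ n) 8 = 1 from Nat.Coprime.pow_left n (by norm_num), pow_one] at this

theorem Embedded.conj_into [Finite G] (E : Embedded π) (L : Subgroup G) {t : Q} (ht : t.right = 1)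
    (ht1 : t ≠ 1) (htL : π t ∈ L) {y : G} (hy : y ∈ L) (hy3 : y ^ 3 = 1) :
    ∃ z ∈ L, ∃ x : Q, x.right = 1 ∧ π x = z * y * z⁻¹ := by
  have : Fact (Nat.Prime 3) := ⟨Nat.prime_three⟩
  have hp : ∀ a : L, a ^ 3 = 1 → IsPGroup 3 (Subgroup.zpowers a) := fun a ha => by
    intro x
    obtain ⟨i, hi⟩ := Subgroup.mem_zpowers_iff.1 x.2
    refine ⟨1, Subtype.ext ?_⟩
    rw [pow_one, Subgroup.coe_pow, ← hi, ← zpow_natCast, ← zpow_mul, mul_comm, zpow_mul,
      zpow_natCast, ha, one_zpow]
    rfl
  have hπt : (π t) ^ 3 = 1 := by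
    rw [pow_succ, pow_two, ← map_mul, ← map_mul, cube_of_right t ht, map_one]
  obtain ⟨P, hP⟩ := (hp ⟨π t, htL⟩ (Subtype.ext (by simpa using hπt))).exists_le_sylow
  obtain ⟨R, hR⟩ := (hp ⟨y, hy⟩ (Subtype.ext (by simpa using hy3))).exists_le_sylow
  obtain ⟨z, hz⟩ := MulAction.exists_smul_eq L R P
  have hsub : ∀ a ∈ (P : Subgroup L), ∃ x : Q, x.right = 1 ∧ π x = a := by
    have hPG : IsPGroup 3 ((P : Subgroup L).map L.subtype) := P.isPGroup'.map _
    have htP : π t ∈ (P : Subgroup L).map L.subtype :=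
      ⟨⟨π t, htL⟩, hP (Subgroup.mem_zpowers _), rfl⟩
    set PG := (P : Subgroup L).map L.subtype
    have hne : π t ≠ 1 := fun h => ht1 (E.inj (h.trans (map_one π).symm))
    have : Nontrivial PG := ⟨⟨⟨π t, htP⟩, 1, fun h => hne (congrArg Subtype.val h)⟩⟩
    have := IsPGroup.center_nontrivial hPG
    obtain ⟨⟨c, hc⟩, hc1⟩ := exists_ne (1 : Subgroup.center PG)
    have hcc : ∀ x ∈ PG, x * (c : G) = c * x := fun x hx =>
      congrArg Subtype.val (Subgroup.mem_center_iff.1 hc ⟨x, hx⟩)
    have hpow : ∀ x ∈ PG, ∃ n, x ^ 3 ^ n = 1 := fun x hx => by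
      obtain ⟨n, hn⟩ := hPG ⟨x, hx⟩
      exact ⟨n, by simpa using congrArg Subtype.val hn⟩
    obtain ⟨n, hn⟩ := hpow _ c.2
    obtain ⟨c', hc', hc'e⟩ := E.mem_plane_of_pow
      (E.cent t ht ht1 (Subgroup.mem_centralizer_singleton_iff.2 (hcc _ htP).symm)) hn
    have hc'1 : c' ≠ 1 := fun h => hc1 (Subtype.ext (Subtype.ext (by
      rw [← hc'e, h, map_one]; rfl)))
    intro a ha
    obtain ⟨m, hm⟩ := hpow a ⟨a, ha, rfl⟩
    exact E.mem_plane_of_pow
      (E.cent c' hc' hc'1 (Subgroup.mem_centralizer_singleton_iff.2 (by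
        rw [hc'e]; exact hcc _ ⟨a, ha, rfl⟩))) hm
  refine ⟨z, z.2, hsub (z * ⟨y, hy⟩ * z⁻¹) ?_⟩
  rw [← hz]
  exact Subgroup.smul_mem_pointwise_smul _ (MulAut.conj z) _ (hR (Subgroup.mem_zpowers _))

/-- Involutions centralizing points of the plane fuse only in the normalizer. -/
theorem Embedded.not_conj [Finite G] (E : Embedded π) {a b m m' : Q} (hm : m.right = 1) (hm1 : m ≠ 1)
    (hm' : m'.right = 1) (hm1' : m' ≠ 1) (ha : m * a = a * m) (hb : m' * b = b * m')
    (hne : ∀ y : Q, y * a * y⁻¹ ≠ b) : ¬ IsConj (π a) (π b) := by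
  intro h
  obtain ⟨g, hg⟩ := isConj_iff.1 h
  obtain ⟨z, hz, x, hx, hxe⟩ := E.conj_into (Subgroup.centralizer {π b}) hm' hm1'
    (Subgroup.mem_centralizer_singleton_iff.2 (by rw [← map_mul, ← map_mul, hb]))
    (y := g * π m * g⁻¹)
    (Subgroup.mem_centralizer_singleton_iff.2 (by
      rw [← hg]
      calc g * π m * g⁻¹ * (g * π a * g⁻¹) = g * π (m * a) * g⁻¹ := by rw [map_mul]; group
        _ = g * π (a * m) * g⁻¹ := by rw [ha]
        _ = _ := by rw [map_mul]; group))
    (by rw [conj_pow, pow_succ, pow_two, ← map_mul, ← map_mul, cube_of_right m hm, map_one]; group)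
  obtain ⟨w, hw⟩ := E.ti hm hm1 (y := x) (g := z * g) (by rw [hxe]; group)
  apply hne w
  apply E.inj
  rw [map_mul, map_mul, map_inv, hw,
    show z * g * π a * (z * g)⁻¹ = z * (g * π a * g⁻¹) * z⁻¹ by group, hg,
    Subgroup.mem_centralizer_singleton_iff.1 hz]
  group

/-- The model as a subgroup. -/
noncomputable def Embedded.equivRange (E : Embedded π) : Q ≃* π.range :=
  MonoidHom.ofInjective E.inj

theorem Embedded.coe_equivRange (E : Embedded π) (x : Q) : (E.equivRange x : G) = π x := rfl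

theorem Embedded.sum_range [Fintype π.range] (E : Embedded π) (f : π.range → ℂ) :
    ∑ n, f n = ∑ x : Q, f (E.equivRange x) :=
  (Fintype.sum_equiv E.equivRange.toEquiv _ _ fun _ => rfl).symm

theorem Embedded.card_range (E : Embedded π) : Nat.card π.range = 72 := by
  rw [← Nat.card_congr E.equivRange.toEquiv, Nat.card_eq_fintype_card]
  rfl

variable [Fintype G]

/-- The induced virtual character. -/
noncomputable def Embedded.lift (E : Embedded π) (f : Q → ℤ) : G → ℂ :=
  indFun π.range (fun n => (f (E.equivRange.symm n) : ℂ))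

theorem Embedded.lift_eq_zero (E : Embedded π) {f : Q → ℤ} {g : G}
    (h : ∀ (c : G) (y : Q), π y = c⁻¹ * g * c → f y = 0) : E.lift f g = 0 := by
  unfold Embedded.lift indFun
  rw [Finset.sum_eq_zero fun c _ => ?_, mul_zero]
  rw [extendByZero_eq]
  split_ifs with hc
  · rw [h c _ (by rw [← E.coe_equivRange]; simp)]; simp
  · rfl

theorem Embedded.lift_special (E : Embedded π) {f : Q → ℤ} (hf : Fun f) {x : Q} (hx : IsSpecial x) :
    E.lift f (π x) = (f x : ℂ) := by
  classical
  unfold Embedded.lift indFun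
  rw [← Finset.sum_filter_add_sum_filter_not Finset.univ (· ∈ π.range),
    Finset.sum_eq_zero (s := Finset.univ.filter fun c => ¬ c ∈ π.range) fun c hc => ?_, add_zero,
    Finset.sum_subtype (p := (· ∈ π.range)) _ (fun c => by simp)
      (fun c => extendByZero π.range (fun n => (f (E.equivRange.symm n) : ℂ)) (c⁻¹ * π x * c)),
    E.sum_range]
  · rw [Finset.sum_congr rfl (g := fun _ => (f x : ℂ)) fun z _ => ?_, Finset.sum_const, Finset.card_univ, nsmul_eq_mul,
      E.card_range]
    · rw [show Fintype.card Q = 72 from rfl]; push_cast; ring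
    · rw [E.coe_equivRange, ← map_inv, ← map_mul, ← map_mul, ← E.coe_equivRange, extendByZero_coe,
        MulEquiv.symm_apply_apply]
      have := hf.cls x z⁻¹
      rw [inv_inv] at this
      rw [this]
  · rw [extendByZero_eq]
    split_ifs with hmem
    · exfalso
      obtain ⟨y, hy⟩ := hmem
      obtain ⟨z, hz, -⟩ := E.special_ti hx (y := y) (g := c⁻¹) (by rw [hy]; group)
      exact (Finset.mem_filter.1 hc).2 (inv_mem_iff.1 ⟨z, hz⟩)
    · rfl

theorem Embedded.lift_gen (E : Embedded π) {f : Q → ℤ} (hf : Fun f) :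
    IsGeneralizedCharacter G (E.lift f) :=
  IsGeneralizedCharacter.indFun (IsGeneralizedCharacter.comp_hom hf.gen E.equivRange.symm.toMonoidHom)

theorem Embedded.inner_lift (E : Embedded π) (f : Q → ℤ) {χ : G → ℂ} (hχ : IsClassFunction G χ) :
    classInner (E.lift f) χ = (72 : ℂ)⁻¹ * ∑ x : Q, (f x : ℂ) * conj (χ (π x)) := by
  have := Fintype.ofFinite π.range
  rw [Embedded.lift, frobenius_reciprocity π.range _ hχ, classInner, E.card_range, E.sum_range]
  simp [E.coe_equivRange]

theorem Embedded.inner_lift_lift (E : Embedded π) {f f' : Q → ℤ} (hf : Fun f) (hf' : Fun f') :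
    classInner (E.lift f) (E.lift f') = (72 : ℂ)⁻¹ * ((∑ x, f x * f' x : ℤ) : ℂ) := by
  rw [E.inner_lift f (χ := E.lift f') (indFun_isClassFunction _ _)]
  push_cast
  congr 1
  refine Finset.sum_congr rfl fun x _ => ?_
  by_cases h : f x = 0
  · simp [h]
  · show (f x : ℂ) * conj (E.lift f' (π x)) = _
    rw [E.lift_special hf' (hf.supp x h), map_intCast]

theorem Embedded.lift_invol (E : Embedded π) {f : Q → ℤ} (hf : Fun f) {g : G} (hg : g * g = 1) :
    E.lift f g = 0 := by
  refine E.lift_eq_zero fun c y hy => ?_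
  by_contra h0
  obtain ⟨-, h2⟩ := special_pow y (hf.supp y h0)
  have hyy : y * y = 1 := E.inj (by
    rw [map_mul, hy, show c⁻¹ * g * c * (c⁻¹ * g * c) = c⁻¹ * (g * g) * c by group, hg, map_one]
    group)
  exact h2 (by rw [hyy, one_mul])

open scoped Classical in
/-- Pairs of conjugates of involutions with special product lie in the normalizer. -/
theorem Embedded.card_pairs (E : Embedded π) {a b : Q} (ha : a * a = 1) (hb : b * b = 1) {x : Q}
    (hx : IsSpecial x) :
    Nat.card {p : G × G // IsConj (π a) p.1 ∧ IsConj (π b) p.2 ∧ p.1 * p.2 = π x} =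
      Nat.card {p : Q × Q // IsConj (π a) (π p.1) ∧ IsConj (π b) (π p.2) ∧ p.1 * p.2 = x} := by
  refine (Nat.card_congr (Equiv.ofBijective
    (fun p => ⟨(π p.1.1, π p.1.2), p.2.1, p.2.2.1, by rw [← map_mul, p.2.2.2]⟩) ⟨?_, ?_⟩)).symm
  · intro p p' h
    have h' := congrArg Subtype.val h
    simp only [Prod.mk.injEq] at h'
    exact Subtype.ext (Prod.ext (E.inj h'.1) (E.inj h'.2))
  · rintro ⟨⟨u, w⟩, hu, hw, huw⟩
    have sq : ∀ {c : Q}, c * c = 1 → ∀ {v : G}, IsConj (π c) v → v * v = 1 := by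
      intro c hc v hv
      obtain ⟨g, rfl⟩ := isConj_iff.1 hv
      rw [show g * π c * g⁻¹ * (g * π c * g⁻¹) = g * (π c * π c) * g⁻¹ by group, ← map_mul, hc,
        map_one]
      group
    have hinv : u * π x * u⁻¹ = π x⁻¹ := by
      simp only at huw
      rw [map_inv, ← huw, ← mul_assoc, sq ha hu, one_mul, mul_inv_rev,
        inv_eq_of_mul_eq_one_right (sq hb hw)]
    obtain ⟨z, hz, -⟩ := E.special_ti hx hinv.symm
    refine ⟨⟨(z, z⁻¹ * x), hz ▸ hu, ?_, mul_inv_cancel_left z x⟩, Subtype.ext (Prod.ext hz ?_)⟩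
    · have : π (z⁻¹ * x) = w := by rw [map_mul, map_inv, hz, ← huw]; group
      exact this ▸ hw
    · show π (z⁻¹ * x) = w
      rw [map_mul, map_inv, hz, ← huw]; group

open scoped Classical in
/-- The class multiplication identity in the model. -/
theorem Embedded.moment (E : Embedded π) [Fintype (IrrCharacter G)] {f : Q → ℤ} (hf : Fun f)
    {m : IrrCharacter G → ℤ} (hm : ∀ χ : IrrCharacter G, classInner (E.lift f) (χ : G → ℂ) = m χ)
    {a b : Q} (ha : a * a = 1) (hb : b * b = 1) {U W : Q → ℤ}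
    (hU : ∀ x, U x = if IsConj (π a) (π x) then 1 else 0)
    (hW : ∀ x, W x = if IsConj (π b) (π x) then 1 else 0) :
    (Nat.card {x : G // IsConj (π a) x} : ℂ) * (Nat.card {x : G // IsConj (π b) x} : ℂ) *
      ∑ χ : IrrCharacter G, (m χ : ℂ) * ((χ : G → ℂ) (π a) * (χ : G → ℂ) (π b) / (χ : G → ℂ) 1) =
      (Nat.card G : ℂ) / 72 * (pairSum U W f : ℂ) := by
  set K := (Nat.card {x : G // IsConj (π a) x} : ℂ) * (Nat.card {x : G // IsConj (π b) x} : ℂ)
  have hG : (Nat.card G : ℂ) ≠ 0 := Nat.cast_ne_zero.2 Nat.card_pos.ne'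
  have h1 : ∀ x, (f x : ℂ) *
      (Nat.card {p : G × G // IsConj (π a) p.1 ∧ IsConj (π b) p.2 ∧ p.1 * p.2 = π x} : ℂ) =
      ∑ p : Q × Q, (U p.1 : ℂ) * W p.2 * (if p.1 * p.2 = x then (f x : ℂ) else 0) := by
    intro x
    by_cases h : f x = 0
    · simp [h]
    · rw [E.card_pairs ha hb (hf.supp x h), Nat.card_eq_fintype_card, Fintype.card_subtype,
        ← Finset.sum_boole, Finset.mul_sum]
      refine Finset.sum_congr rfl fun p _ => ?_
      rw [hU, hW]
      by_cases hu : IsConj (π a) (π p.1) <;> by_cases hw : IsConj (π b) (π p.2) <;> simp [hu, hw, -isConj_iff]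
  have h2 : ∑ x, (f x : ℂ) *
      (Nat.card {p : G × G // IsConj (π a) p.1 ∧ IsConj (π b) p.2 ∧ p.1 * p.2 = π x} : ℂ) =
      (pairSum U W f : ℂ) := by
    rw [Finset.sum_congr rfl fun x _ => h1 x, Finset.sum_comm, Fintype.sum_prod_type, pairSum]
    push_cast
    refine Finset.sum_congr rfl fun u _ => Finset.sum_congr rfl fun w _ => ?_
    rw [← Finset.mul_sum, Finset.sum_ite_eq]
    simp
  simp only [class_mult_formula] at h2
  have h3 : ∀ χ : IrrCharacter G, ∑ x, (f x : ℂ) * conj ((χ : G → ℂ) (π x)) = 72 * (m χ : ℂ) := by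
    intro χ
    rw [← hm χ, E.inner_lift f (IsIrrCharacter.isClassFunction χ.2)]
    ring
  have h4 : ∑ x, (f x : ℂ) * (K / (Nat.card G : ℂ) * ∑ χ : IrrCharacter G,
      (χ : G → ℂ) (π a) * (χ : G → ℂ) (π b) * conj ((χ : G → ℂ) (π x)) / (χ : G → ℂ) 1) =
      K / (Nat.card G : ℂ) * ∑ χ : IrrCharacter G,
        (χ : G → ℂ) (π a) * (χ : G → ℂ) (π b) / (χ : G → ℂ) 1 * (72 * (m χ : ℂ)) := by
    simp only [← h3, Finset.mul_sum]
    rw [Finset.sum_comm]
    exact Finset.sum_congr rfl fun χ _ => Finset.sum_congr rfl fun x _ => by ring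
  rw [h4] at h2
  rw [← h2, Finset.mul_sum, Finset.mul_sum, Finset.mul_sum]
  refine Finset.sum_congr rfl fun χ _ => ?_
  field_simp

open scoped Classical in
/-- No group has such a normalizer unless a linear character has coefficient `-1` in one of the
four special functions. -/
theorem Embedded.false_of_linear (E : Embedded π)
    (hlinear : ∀ l : G →* ℂ, ∀ f ∈ [fA, fB, fC, fD], ∑ x, (f x : ℂ) * conj (l (π x)) ≠ -72) :
    False := by
  have := Fintype.ofFinite (IrrCharacter G)
  let o : IrrCharacter G := ⟨1, isIrrCharacter_one⟩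
  choose d hd0 hd using fun χ : IrrCharacter G => IsIrrCharacter.exists_degree χ.2
  have hdpos : ∀ χ, d χ ≠ 0 := fun χ => (hd0 χ).ne'
  have hdC : ∀ χ, (d χ : ℂ) ≠ 0 := fun χ => Nat.cast_ne_zero.2 (hdpos χ)
  have hdo : d o = 1 := by
    have := hd o
    rw [show ((o : IrrCharacter G) : G → ℂ) 1 = 1 from rfl] at this
    exact_mod_cast this.symm
  have hcoef : ∀ {f : Q → ℤ}, Fun f → ∃ m : IrrCharacter G → ℤ,
      E.lift f = ∑ χ : IrrCharacter G, (m χ : ℂ) • (χ : G → ℂ) ∧
      ∀ χ : IrrCharacter G, classInner (E.lift f) (χ : G → ℂ) = m χ := fun hf => by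
    obtain ⟨m, h1, h2, -⟩ := IsGeneralizedCharacter.exists_coeffs (E.lift_gen hf)
    exact ⟨m, h1, h2⟩
  obtain ⟨mA, eA, iA⟩ := hcoef fun_A
  obtain ⟨mB, eB, iB⟩ := hcoef fun_B
  obtain ⟨mC, eC, iC⟩ := hcoef fun_C
  obtain ⟨mD, eD, iD⟩ := hcoef fun_D
  have hd1 : ∀ χ, χ ≠ o → d χ = 1 → mA χ ≠ -1 ∧ mB χ ≠ -1 ∧ mC χ ≠ -1 ∧ mD χ ≠ -1 := by
    intro χ _ h1
    obtain ⟨l, hl⟩ := exists_hom_of_degree_one (IsIrrCharacter.isCharacter χ.2)
      (by rw [hd χ, h1, Nat.cast_one])
    have key : ∀ {f : Q → ℤ} {m : IrrCharacter G → ℤ}, f ∈ [fA, fB, fC, fD] →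
        (∀ χ : IrrCharacter G, classInner (E.lift f) (χ : G → ℂ) = m χ) → m χ ≠ -1 := by
      intro f m hf hi hm
      refine hlinear l f hf ?_
      have h := hi χ
      rw [E.inner_lift f (IsIrrCharacter.isClassFunction χ.2), hm] at h
      simp only [← hl] at h
      push_cast at h
      linear_combination 72 * h
    exact ⟨key (by simp) iA, key (by simp) iB, key (by simp) iC, key (by simp) iD⟩
  have hinner : ∀ {f f' : Q → ℤ} {m m' : IrrCharacter G → ℤ}, Fun f → Fun f' →
      E.lift f = ∑ χ : IrrCharacter G, (m χ : ℂ) • (χ : G → ℂ) →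
      (∀ χ : IrrCharacter G, classInner (E.lift f') (χ : G → ℂ) = m' χ) →
      ∀ c : ℤ, ∑ x, f x * f' x = 72 * c → ∑ χ, m χ * m' χ = c := by
    intro f f' m m' hf hf' he hi' c hc
    have h := E.inner_lift_lift hf hf'
    rw [hc, he, classInner_sum_left] at h
    have : ∀ χ : IrrCharacter G, classInner ((m χ : ℂ) • (χ : G → ℂ)) (E.lift f') =
        (m χ : ℂ) * (m' χ : ℂ) := fun χ => by
      rw [classInner_smul_left, ← classInner_conj_symm, hi', map_intCast]
    rw [Finset.sum_congr rfl fun χ _ => this χ] at h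
    have h' : ((∑ χ, m χ * m' χ : ℤ) : ℂ) = (c : ℂ) := by
      push_cast at h ⊢
      rw [h]; ring
    exact_mod_cast h'
  let cl : Q → ℂ := fun a => (Nat.card {x : G // IsConj (π a) x} : ℂ)
  let co : Q → IrrCharacter G → ℂ := fun a χ =>
    cl a * ((χ : G → ℂ) (π a) / (d χ : ℂ) - 1)
  have hco : ∀ a, co a o = 0 := fun a => by
    simp only [co, o, Pi.one_apply, hdo, Nat.cast_one, div_one, sub_self, mul_zero]
  have hquad : ∀ {f : Q → ℤ} {m : IrrCharacter G → ℤ}, Fun f →
      E.lift f = ∑ χ : IrrCharacter G, (m χ : ℂ) • (χ : G → ℂ) →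
      (∀ χ : IrrCharacter G, classInner (E.lift f) (χ : G → ℂ) = m χ) →
      ∑ x, f x = 72 → ∑ x, f x * f x = 288 →
      ∀ {a b : Q} {U W : Q → ℤ}, a * a = 1 → b * b = 1 →
        (∀ x, U x = if IsConj (π a) (π x) then 1 else 0) →
        (∀ x, W x = if IsConj (π b) (π x) then 1 else 0) →
        Quad o d (co a) (co b) m ((Nat.card G : ℂ) / 72 * (pairSum U U f : ℂ))
          ((Nat.card G : ℂ) / 72 * (pairSum U W f : ℂ))
          ((Nat.card G : ℂ) / 72 * (pairSum W W f : ℂ)) := by
    intro f m hf he hi h1 h2 a b U W ha hb hU hW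
    have hval : ∀ g, ∑ χ : IrrCharacter G, (m χ : ℂ) * (χ : G → ℂ) g = E.lift f g := fun g => by
      rw [he]; simp [Finset.sum_apply]
    have hdeg : ∑ χ : IrrCharacter G, (m χ : ℂ) * (d χ : ℂ) = 0 := by
      have := hval 1
      rw [E.lift_invol hf (one_mul 1)] at this
      rw [← this]
      exact Finset.sum_congr rfl fun χ _ => by rw [hd χ]
    have hlin : ∀ c : Q, c * c = 1 →
        ∑ χ : IrrCharacter G, (m χ : ℂ) * (χ : G → ℂ) (π c) = 0 := fun c hc => by
      rw [hval, E.lift_invol hf (by rw [← map_mul, hc, map_one])]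
    have hmom : ∀ c : Q, c * c = 1 →
        ∑ χ : IrrCharacter G, (m χ : ℂ) * (d χ : ℂ) * co c χ = 0 := fun c hc => by
      have : ∀ χ : IrrCharacter G, (m χ : ℂ) * (d χ : ℂ) * co c χ =
          cl c * ((m χ : ℂ) * (χ : G → ℂ) (π c)) - cl c * ((m χ : ℂ) * (d χ : ℂ)) := fun χ => by
        have := hdC χ
        simp only [co]; field_simp
      rw [Finset.sum_congr rfl fun χ _ => this χ, Finset.sum_sub_distrib, ← Finset.mul_sum,
        ← Finset.mul_sum, hlin c hc, hdeg]
      ring
    have hsq : ∀ {c e : Q} {R S : Q → ℤ}, c * c = 1 → e * e = 1 →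
        (∀ x, R x = if IsConj (π c) (π x) then 1 else 0) →
        (∀ x, S x = if IsConj (π e) (π x) then 1 else 0) →
        ∑ χ : IrrCharacter G, (m χ : ℂ) * (d χ : ℂ) * (co c χ * co e χ) =
          (Nat.card G : ℂ) / 72 * (pairSum R S f : ℂ) := by
      intro c e R S hc he' hR hS
      rw [← E.moment hf hi hc he' hR hS]
      have : ∀ χ : IrrCharacter G, (m χ : ℂ) * (d χ : ℂ) * (co c χ * co e χ) =
          cl c * cl e * ((m χ : ℂ) * ((χ : G → ℂ) (π c) * (χ : G → ℂ) (π e) / (χ : G → ℂ) 1)) -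
            cl c * cl e * ((m χ : ℂ) * (χ : G → ℂ) (π c)) -
            cl c * cl e * ((m χ : ℂ) * (χ : G → ℂ) (π e)) +
            cl c * cl e * ((m χ : ℂ) * (d χ : ℂ)) := fun χ => by
        have := hdC χ
        simp only [co]
        rw [hd χ]
        field_simp
        ring
      rw [Finset.sum_congr rfl fun χ _ => this χ, Finset.sum_add_distrib, Finset.sum_sub_distrib,
        Finset.sum_sub_distrib, ← Finset.mul_sum, ← Finset.mul_sum, ← Finset.mul_sum,
        ← Finset.mul_sum, hlin c hc, hlin e he', hdeg]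
      simp only [cl]
      ring
    refine ⟨?_, hinner hf hf he hi 4 (by rw [h2]; norm_num), by exact_mod_cast hdeg, hmom a ha,
      hmom b hb, hsq ha ha hU hU, hsq ha hb hU hW, hsq hb hb hW hW⟩
    have := hi o
    rw [E.inner_lift f (IsIrrCharacter.isClassFunction o.2)] at this
    simp only [o, Pi.one_apply, map_one, mul_one] at this
    rw [← Int.cast_sum, h1] at this
    push_cast at this
    norm_num at this
    exact_mod_cast this.symm
  obtain ⟨⟨tA, tB, tC, tD⟩, ⟨nA, nB, nC, nD⟩, ⟨hAB, hBC, hCD, hAD⟩⟩ := tables_inner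
  have iAB := hinner fun_A fun_B eA iB 2 (by rw [hAB]; norm_num)
  have iBC := hinner fun_B fun_C eB iC 2 (by rw [hBC]; norm_num)
  have iCD := hinner fun_C fun_D eC iD 2 (by rw [hCD]; norm_num)
  have iAD := hinner fun_A fun_D eA iD 2 (by rw [hAD]; norm_num)
  -- the congruence at the plane
  have hcong : ∀ χ, (9 : ℤ) ∣ (d χ : ℤ) + 4 * (2 * mA χ + 2 * mB χ - mC χ - mD χ) := by
    intro χ
    let ι : Multiplicative V →* G := π.comp SemidirectProduct.inl
    obtain ⟨k, hk⟩ := IsCharacter.classInner_nat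
      (IsCharacter.comp_hom (IsIrrCharacter.isCharacter χ.2) ι)
      (isCharacter_one (G := Multiplicative V))
    rw [classInner, show Nat.card (Multiplicative V) = 9 by rw [Nat.card_eq_fintype_card]; rfl] at hk
    simp only [Pi.one_apply, map_one, mul_one] at hk
    have hk' : ∑ v : Multiplicative V, (χ : G → ℂ) (ι v) = 9 * k := by
      rw [← hk]; push_cast; ring
    let c : Q → ℂ := fun x => conj ((χ : G → ℂ) (π x))
    have hsum : ∑ v : Multiplicative V, conj ((χ : G → ℂ) (ι v)) =
        ∑ x : Q, if x.right = 1 then c x else 0 := by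
      rw [← Equiv.sum_comp SemidirectProduct.equivProd.symm, Fintype.sum_prod_type]
      refine Finset.sum_congr rfl fun v _ => ?_
      refine Eq.trans ?_ (Finset.sum_eq_single (1 : DihedralGroup 4) ?_ ?_).symm
      · rfl
      · exact fun g _ hg => if_neg hg
      · exact fun h => absurd (Finset.mem_univ _) h
    have e1 : ∀ x : Q, (if x.right = 1 then c x else 0) * 18 =
        ((2 * fA x + 2 * fB x - fC x - fD x : ℤ) : ℂ) * c x +
          (if x = 1 then 18 * (d χ : ℂ) else 0) := by
      intro x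
      rw [tables_congr x]
      by_cases hx : x = 1
      · subst hx
        simp only [c, map_one, SemidirectProduct.one_right, if_true, ne_eq, not_true_eq_false,
          and_false, if_false, Int.cast_zero, zero_mul, zero_add, hd χ, map_natCast]
        ring
      · by_cases hr : x.right = 1 <;> simp [hx, hr, mul_comm]
    have e2 : ∀ {f : Q → ℤ} {m : IrrCharacter G → ℤ},
        (∀ χ : IrrCharacter G, classInner (E.lift f) (χ : G → ℂ) = m χ) →
        ∑ x, (f x : ℂ) * c x = 72 * (m χ : ℂ) := by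
      intro f m hi
      rw [← hi χ, E.inner_lift f (IsIrrCharacter.isClassFunction χ.2)]
      ring
    have e3 : (∑ x : Q, if x.right = 1 then c x else 0) * 18 =
        72 * ((2 * mA χ + 2 * mB χ - mC χ - mD χ : ℤ) : ℂ) + 18 * (d χ : ℂ) := by
      rw [Finset.sum_mul, Finset.sum_congr rfl fun x _ => e1 x, Finset.sum_add_distrib,
        Finset.sum_ite_eq' Finset.univ (1 : Q), if_pos (Finset.mem_univ _)]
      push_cast
      simp only [add_mul, sub_mul, mul_assoc, Finset.sum_add_distrib, Finset.sum_sub_distrib,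
        ← Finset.mul_sum, e2 iA, e2 iB, e2 iC, e2 iD]
      ring
    rw [← hsum, ← map_sum, hk', map_mul, map_natCast, map_ofNat] at e3
    refine ⟨k, ?_⟩
    have e4 : ((d χ : ℤ) + 4 * (2 * mA χ + 2 * mB χ - mC χ - mD χ) : ℤ) = ((9 * k : ℤ) : ℂ) := by
      push_cast at e3 ⊢
      linear_combination (-1 / 18) * e3
    exact_mod_cast e4
  -- fusion
  have hsq : ∀ {t : Q}, kind t = .invAxis ∨ kind t = .invCent ∨ kind t = .invDiag → t * t = 1 :=
    fun h => (kind_invol _ h).1
  have hkA : kind tAxis = .invAxis := by decide +kernel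
  have hkC : kind tCent = .invCent := by decide +kernel
  have hkD : kind tDiag = .invDiag := by decide +kernel
  have sA := hsq (Or.inl hkA)
  have sC := hsq (Or.inr (Or.inl hkC))
  have sD := hsq (Or.inr (Or.inr hkD))
  have hnot : ¬ IsConj (π tAxis) (π tDiag) :=
    E.not_conj (m := el 1 0 1) (m' := el 1 2 1) rfl (by decide +kernel) rfl (by decide +kernel)
      (by decide +kernel) (by decide +kernel) (by decide +kernel)
  have hin : ∀ {t : Q}, (∃ y, y * tAxis * y⁻¹ = t) → IsConj (π tAxis) (π t) := fun ⟨y, hy⟩ =>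
    isConj_iff.2 ⟨π y, by rw [← hy]; simp⟩
  have hinC : ∀ {t : Q}, (∃ y, y * tCent * y⁻¹ = t) → IsConj (π tCent) (π t) := fun ⟨y, hy⟩ =>
    isConj_iff.2 ⟨π y, by rw [← hy]; simp⟩
  have hinD : ∀ {t : Q}, (∃ y, y * tDiag * y⁻¹ = t) → IsConj (π tDiag) (π t) := fun ⟨y, hy⟩ =>
    isConj_iff.2 ⟨π y, by rw [← hy]; simp⟩
  have hout : ∀ {a x : Q}, a * a = 1 → a ≠ 1 → IsConj (π a) (π x) →
      kind x = .invAxis ∨ kind x = .invCent ∨ kind x = .invDiag := by
    intro a x ha ha1 h
    obtain ⟨g, hg⟩ := isConj_iff.1 h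
    refine invol_kind x (E.inj ?_) fun hx => ha1 (E.inj ?_)
    · rw [map_mul, ← hg, show g * π a * g⁻¹ * (g * π a * g⁻¹) = g * (π a * π a) * g⁻¹ by group,
        ← map_mul, ha, map_one]
      group
    · rw [hx, map_one, mul_inv_eq_one, mul_eq_left] at hg
      rw [hg, map_one]
  have hGC : (Nat.card G : ℂ) ≠ 0 := Nat.cast_ne_zero.2 Nat.card_pos.ne'
  by_cases hAC : IsConj (π tAxis) (π tCent)
  · have hU : ∀ x, iAxis x + iCent x = if IsConj (π tAxis) (π x) then 1 else 0 := by
      intro x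
      by_cases h : IsConj (π tAxis) (π x)
      · rcases hout sA (by decide +kernel) h with k | k | k
        · rw [if_pos h]; simp [iAxis, iCent, k]
        · rw [if_pos h]; simp [iAxis, iCent, k]
        · exact absurd (h.trans (hinD (exists_conj_diag x k)).symm) hnot
      · rw [if_neg h]
        have k1 : kind x ≠ .invAxis := fun k => h (hin (exists_conj_axis x k))
        have k2 : kind x ≠ .invCent := fun k => h (hAC.trans (hinC (exists_conj_cent x k)))
        simp [iAxis, iCent, k1, k2]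
    have hW : ∀ x, iDiag x = if IsConj (π tDiag) (π x) then 1 else 0 := by
      intro x
      by_cases h : IsConj (π tDiag) (π x)
      · rcases hout sD (by decide +kernel) h with k | k | k
        · exact absurd ((hin (exists_conj_axis x k)).trans h.symm) hnot
        · exact absurd ((hAC.trans (hinC (exists_conj_cent x k))).trans h.symm) hnot
        · rw [if_pos h]; simp [iDiag, k]
      · rw [if_neg h]
        have k1 : kind x ≠ .invDiag := fun k => h (hinD (exists_conj_diag x k))
        simp [iDiag, k1]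
    obtain ⟨⟨a1, a2, a3⟩, ⟨b1, b2, b3⟩, ⟨c1, c2, c3⟩, ⟨e1, e2, e3⟩⟩ := tables_fused_axis
    have qA := hquad fun_A eA iA tA nA sA sD hU hW
    have qB := hquad fun_B eB iB tB nB sA sD hU hW
    have qC := hquad fun_C eC iC tC nC sA sD hU hW
    have qD := hquad fun_D eD iD tD nD sA sD hU hW
    rw [a1, a2, a3] at qA
    rw [b1, b2, b3] at qB
    rw [c1, c2, c3] at qC
    rw [e1, e2, e3] at qD
    refine false_of_fused (J := (Nat.card G : ℂ) / 2) (div_ne_zero hGC two_ne_zero) hdpos hdo
      (fun i hi h => ⟨(hd1 i hi h).2.1, (hd1 i hi h).2.2.1⟩)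
      (hco tAxis) (hco tDiag) ?_ ?_ ?_ ?_ iAB iBC iCD iAD hcong
    · convert qA using 1 <;> push_cast <;> ring
    · convert qB using 1 <;> push_cast <;> ring
    · convert qC using 1 <;> push_cast <;> ring
    · convert qD using 1 <;> push_cast <;> ring
  by_cases hDC : IsConj (π tDiag) (π tCent)
  · have hU : ∀ x, iDiag x + iCent x = if IsConj (π tDiag) (π x) then 1 else 0 := by
      intro x
      by_cases h : IsConj (π tDiag) (π x)
      · rcases hout sD (by decide +kernel) h with k | k | k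
        · exact absurd ((hin (exists_conj_axis x k)).trans h.symm) hnot
        · rw [if_pos h]; simp [iDiag, iCent, k]
        · rw [if_pos h]; simp [iDiag, iCent, k]
      · rw [if_neg h]
        have k1 : kind x ≠ .invDiag := fun k => h (hinD (exists_conj_diag x k))
        have k2 : kind x ≠ .invCent := fun k => h (hDC.trans (hinC (exists_conj_cent x k)))
        simp [iDiag, iCent, k1, k2]
    have hW : ∀ x, iAxis x = if IsConj (π tAxis) (π x) then 1 else 0 := by
      intro x
      by_cases h : IsConj (π tAxis) (π x)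
      · rcases hout sA (by decide +kernel) h with k | k | k
        · rw [if_pos h]; simp [iAxis, k]
        · exact absurd (h.trans (hinC (exists_conj_cent x k)).symm) hAC
        · exact absurd (h.trans (hinD (exists_conj_diag x k)).symm) hnot
      · rw [if_neg h]
        have k1 : kind x ≠ .invAxis := fun k => h (hin (exists_conj_axis x k))
        simp [iAxis, k1]
    obtain ⟨⟨a1, a2, a3⟩, ⟨b1, b2, b3⟩, ⟨c1, c2, c3⟩, ⟨e1, e2, e3⟩⟩ := tables_fused_diag
    have qA := hquad fun_B eB iB tB nB sD sA hU hW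
    have qB := hquad fun_A eA iA tA nA sD sA hU hW
    have qC := hquad fun_D eD iD tD nD sD sA hU hW
    have qD := hquad fun_C eC iC tC nC sD sA hU hW
    rw [a1, a2, a3] at qA
    rw [b1, b2, b3] at qB
    rw [c1, c2, c3] at qC
    rw [e1, e2, e3] at qD
    refine false_of_fused (J := (Nat.card G : ℂ) / 2) (div_ne_zero hGC two_ne_zero) hdpos hdo
      (fun i hi h => ⟨(hd1 i hi h).1, (hd1 i hi h).2.2.2⟩)
      (hco tDiag) (hco tAxis) (mA := mB) (mB := mA) (mC := mD) (mD := mC) ?_ ?_ ?_ ?_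
      (by simpa [mul_comm] using iAB) iAD (by simpa [mul_comm] using iCD) iBC fun χ => ?_
    · convert qA using 1 <;> push_cast <;> ring
    · convert qB using 1 <;> push_cast <;> ring
    · convert qC using 1 <;> push_cast <;> ring
    · convert qD using 1 <;> push_cast <;> ring
    · convert hcong χ using 1; ring
  · have hU : ∀ x, iAxis x = if IsConj (π tAxis) (π x) then 1 else 0 := by
      intro x
      by_cases h : IsConj (π tAxis) (π x)
      · rcases hout sA (by decide +kernel) h with k | k | k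
        · rw [if_pos h]; simp [iAxis, k]
        · exact absurd (h.trans (hinC (exists_conj_cent x k)).symm) hAC
        · exact absurd (h.trans (hinD (exists_conj_diag x k)).symm) hnot
      · rw [if_neg h]
        have k1 : kind x ≠ .invAxis := fun k => h (hin (exists_conj_axis x k))
        simp [iAxis, k1]
    have hW : ∀ x, iDiag x = if IsConj (π tDiag) (π x) then 1 else 0 := by
      intro x
      by_cases h : IsConj (π tDiag) (π x)
      · rcases hout sD (by decide +kernel) h with k | k | k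
        · exact absurd ((hin (exists_conj_axis x k)).trans h.symm) hnot
        · exact absurd (h.trans (hinC (exists_conj_cent x k)).symm) hDC
        · rw [if_pos h]; simp [iDiag, k]
      · rw [if_neg h]
        have k1 : kind x ≠ .invDiag := fun k => h (hinD (exists_conj_diag x k))
        simp [iDiag, k1]
    obtain ⟨c1, c2, c3, e1, e2, e3⟩ := tables_unfused
    have qC := hquad fun_C eC iC tC nC sA sD hU hW
    have qD := hquad fun_D eD iD tD nD sA sD hU hW
    rw [c1, c2, c3] at qC
    rw [e1, e2, e3] at qD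
    refine false_of_unfused (J := (Nat.card G : ℂ) / 72) (div_ne_zero hGC (by norm_num)) hdpos hdo
      (fun i hi h => (hd1 i hi h).2.2.1) (hco tAxis) (hco tDiag) ?_ ?_ iCD
    · simpa using qC
    · simpa using qD

/-- The main contradiction. -/
theorem Embedded.false_of_simple (E : Embedded π) [IsSimpleGroup G]
    (hG : ¬ IsMulCommutative G) : False := by
  refine E.false_of_linear fun l f hf => ?_
  obtain ⟨⟨tA, tB, tC, tD⟩, -, -⟩ := tables_inner
  have hone : ∀ g, l g = 1 := by
    rcases l.normal_ker.eq_bot_or_eq_top with h | h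
    · exfalso
      have hinj := (MonoidHom.ker_eq_bot_iff l).1 h
      exact hG ⟨⟨fun x y => hinj (by rw [map_mul, map_mul, mul_comm])⟩⟩
    · exact fun g => MonoidHom.mem_ker.1 (h ▸ Subgroup.mem_top g)
  have hsum : ∑ x, f x = 72 := by
    simp only [List.mem_cons, List.not_mem_nil, or_false] at hf
    rcases hf with rfl | rfl | rfl | rfl
    exacts [tA, tB, tC, tD]
  simp only [hone, map_one, mul_one]
  rw [← Int.cast_sum, hsum]
  norm_num

end Cfsg.Agent.ThreeSquareDihedral
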