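import Cfsg.Agent.EqLemmas
import Mathlib

/-!
# The algebra of four virtual characters of norm four

The second moments of the constituents at two involution classes force a constituent
of degree one.
-/

set_option autoImplicit false

namespace Cfsg.Agent.ThreeSquareDihedral

/-- Weighted three-point identities. -/
theorem triple_identity {a b c x₁ x₂ x₃ y₁ y₂ y₃ g₁ g₂ g₃ : ℂ} (hc : c ≠ 0)
    (hw : a + b + c = -1) (hx : a * x₁ + b * x₂ + c * x₃ = 0)
    (hy : a * y₁ + b * y₂ + c * y₃ = 0)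
    (h1 : g₁ = a * x₁ * x₁ + b * x₂ * x₂ + c * x₃ * x₃)
    (h2 : g₂ = a * x₁ * y₁ + b * x₂ * y₂ + c * x₃ * y₃)
    (h3 : g₃ = a * y₁ * y₁ + b * y₂ * y₂ + c * y₃ * y₃) :
    a * (g₃ * x₁ * x₁ - 2 * g₂ * x₁ * y₁ + g₁ * y₁ * y₁) = (1 + a) * (g₁ * g₃ - g₂ * g₂) ∧
      g₃ * x₁ * x₂ - g₂ * (x₁ * y₂ + x₂ * y₁) + g₁ * y₁ * y₂ = g₁ * g₃ - g₂ * g₂ := by
  have e1 : x₃ = -(a * x₁ + b * x₂) / c := by
    rw [eq_div_iff hc]; linear_combination hx
  have e2 : y₃ = -(a * y₁ + b * y₂) / c := by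
    rw [eq_div_iff hc]; linear_combination hy
  obtain rfl : c = -1 - a - b := by linear_combination hw
  subst h1 h2 h3 e1 e2
  constructor <;> (field_simp; ring)

variable {ι : Type*} [Fintype ι]

/-- Data of a virtual character `1 + x + y + z` vanishing at `1` and at two involutions. -/
structure Quad (o : ι) (d : ι → ℕ) (X Y : ι → ℂ) (m : ι → ℤ) (g₁ g₂ g₃ : ℂ) : Prop where
  at_triv : m o = 1
  norm : ∑ i, m i * m i = 4
  deg : ∑ i, m i * (d i : ℤ) = 0
  momX : ∑ i, (m i : ℂ) * (d i : ℂ) * X i = 0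
  momY : ∑ i, (m i : ℂ) * (d i : ℂ) * Y i = 0
  mom1 : ∑ i, (m i : ℂ) * (d i : ℂ) * (X i * X i) = g₁
  mom2 : ∑ i, (m i : ℂ) * (d i : ℂ) * (X i * Y i) = g₂
  mom3 : ∑ i, (m i : ℂ) * (d i : ℂ) * (Y i * Y i) = g₃

variable {o : ι} {d : ι → ℕ} {X Y : ι → ℂ} {m m' : ι → ℤ} {g₁ g₂ g₃ g₁' g₂' g₃' : ℂ}

open scoped Classical in
theorem Quad.card_support (h : Quad o d X Y m g₁ g₂ g₃) :
    ((Finset.univ.erase o).filter fun i => m i ≠ 0).card = 3 ∧
      ∀ i, i ≠ o → m i = 0 ∨ m i = 1 ∨ m i = -1 := by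
  set S := (Finset.univ.erase o).filter fun i => m i ≠ 0 with hS
  have hsum : ∑ i ∈ S, m i * m i = 3 := by
    have e := Finset.add_sum_erase Finset.univ (fun i => m i * m i) (Finset.mem_univ o)
    simp only [h.at_triv, h.norm] at e
    rw [hS, Finset.sum_filter_of_ne (p := fun i => m i ≠ 0) (fun i _ (hi : m i * m i ≠ 0) h0 => hi (by simp [h0]))]
    omega
  have hle : ∀ i ∈ S, m i * m i ≤ 3 := fun i hi =>
    hsum ▸ Finset.single_le_sum (f := fun i => m i * m i) (fun j _ => mul_self_nonneg _) hi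
  have hunit : ∀ i, i ≠ o → m i = 0 ∨ m i = 1 ∨ m i = -1 := by
    intro i hi
    by_cases h0 : m i = 0
    · exact Or.inl h0
    · have := hle i (by simp [hS, hi, h0])
      have h1 : -2 < m i := by nlinarith
      have h2 : m i < 2 := by nlinarith
      omega
  refine ⟨?_, hunit⟩
  have hone : ∀ i ∈ S, m i * m i = 1 := by
    intro i hi
    simp only [hS, Finset.mem_filter, Finset.mem_erase] at hi
    rcases hunit i hi.1.1 with e | e | e
    · exact absurd e hi.2
    all_goals rw [e]; norm_num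
  rw [Finset.sum_congr rfl hone, Finset.sum_const, nsmul_one] at hsum
  exact_mod_cast hsum

theorem Quad.sum_three (h : Quad o d X Y m g₁ g₂ g₃) {i j k : ι} (hij : i ≠ j) (hik : i ≠ k)
    (hjk : j ≠ k) (hsup : ∀ l, l ≠ o → m l ≠ 0 → l = i ∨ l = j ∨ l = k) (hi : i ≠ o) (hj : j ≠ o)
    (hk : k ≠ o) (f : ι → ℂ) :
    ∑ l, (m l : ℂ) * f l = f o + ((m i : ℂ) * f i + ((m j : ℂ) * f j + (m k : ℂ) * f k)) := by
  classical
  have e : ∑ l, (m l : ℂ) * f l = ∑ l ∈ {o, i, j, k}, (m l : ℂ) * f l := by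
    refine (Finset.sum_subset (Finset.subset_univ _) fun l _ hl => ?_).symm
    simp only [Finset.mem_insert, Finset.mem_singleton] at hl
    by_contra h0
    have hm : m l ≠ 0 := fun hm => h0 (by simp [hm])
    have := hsup l (fun e => hl (Or.inl e)) hm
    tauto
  rw [e, Finset.sum_insert (by simp [hi.symm, hj.symm, hk.symm]),
    Finset.sum_insert (by simp [hij, hik]), Finset.sum_pair hjk, h.at_triv, Int.cast_one, one_mul]

open scoped Classical in
/-- The two identities at constituents of `m`. -/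
theorem Quad.identity (h : Quad o d X Y m g₁ g₂ g₃) (hd0 : ∀ i, d i ≠ 0) (hdo : d o = 1)
    (hXo : X o = 0) (hYo : Y o = 0) {i : ι} (hi : i ≠ o) (hmi : m i ≠ 0) :
    (m i : ℂ) * (d i : ℂ) * (g₃ * X i * X i - 2 * g₂ * X i * Y i + g₁ * Y i * Y i) =
        (1 + (m i : ℂ) * (d i : ℂ)) * (g₁ * g₃ - g₂ * g₂) ∧
      ∀ j, j ≠ o → j ≠ i → m j ≠ 0 →
        g₃ * X i * X j - g₂ * (X i * Y j + X j * Y i) + g₁ * Y i * Y j =
          g₁ * g₃ - g₂ * g₂ := by
  obtain ⟨hc, -⟩ := h.card_support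
  set S := (Finset.univ.erase o).filter fun l => m l ≠ 0 with hS
  have hiS : i ∈ S := by simp [hS, hi, hmi]
  have hkey : ∀ j ∈ S, j ≠ i →
      (m i : ℂ) * (d i : ℂ) * (g₃ * X i * X i - 2 * g₂ * X i * Y i + g₁ * Y i * Y i) =
          (1 + (m i : ℂ) * (d i : ℂ)) * (g₁ * g₃ - g₂ * g₂) ∧
        g₃ * X i * X j - g₂ * (X i * Y j + X j * Y i) + g₁ * Y i * Y j =
          g₁ * g₃ - g₂ * g₂ := by
    intro j hj hji
    have hcard : ((S.erase i).erase j).card = 1 := by
      rw [Finset.card_erase_of_mem (Finset.mem_erase.2 ⟨hji, hj⟩), Finset.card_erase_of_mem hiS, hc]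
    obtain ⟨k, hk⟩ := Finset.card_eq_one.1 hcard
    have hkm : k ∈ (S.erase i).erase j := by simp [hk]
    simp only [Finset.mem_erase, hS, Finset.mem_filter] at hkm hj
    have hsup : ∀ l, l ≠ o → m l ≠ 0 → l = i ∨ l = j ∨ l = k := by
      intro l hl hml
      by_contra hno
      push Not at hno
      have : l ∈ (S.erase i).erase j := by simp [hS, hl, hml, hno.1, hno.2.1]
      rw [hk, Finset.mem_singleton] at this
      exact hno.2.2 this
    have E := h.sum_three hji.symm hkm.2.1.symm hkm.1.symm hsup hi hj.1.1 hkm.2.2.1.1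
    have hdeg : ∑ l, (m l : ℂ) * (d l : ℂ) = 0 := by exact_mod_cast h.deg
    have hx := h.momX
    have hy := h.momY
    have h1 := h.mom1
    have h2 := h.mom2
    have h3 := h.mom3
    simp only [mul_assoc] at hx hy h1 h2 h3
    rw [E] at hdeg hx hy h1 h2 h3
    simp only [hXo, hYo, hdo, Nat.cast_one, mul_zero, zero_add] at hdeg hx hy h1 h2 h3
    have hck : (m k : ℂ) * (d k : ℂ) ≠ 0 :=
      mul_ne_zero (Int.cast_ne_zero.2 hkm.2.2.2) (Nat.cast_ne_zero.2 (hd0 k))
    exact triple_identity (a := (m i : ℂ) * (d i : ℂ)) (b := (m j : ℂ) * (d j : ℂ))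
      (x₁ := X i) (x₂ := X j) (x₃ := X k) (y₁ := Y i) (y₂ := Y j) (y₃ := Y k)
      (g₁ := g₁) (g₂ := g₂) (g₃ := g₃) hck
      (by linear_combination hdeg) (by linear_combination hx) (by linear_combination hy)
      (by linear_combination -h1) (by linear_combination -h2) (by linear_combination -h3)
  refine ⟨?_, fun j hj hji hmj => (hkey j (by simp [hS, hj, hmj]) hji).2⟩
  obtain ⟨j, hj⟩ : (S.erase i).Nonempty := by
    rw [← Finset.card_pos, Finset.card_erase_of_mem hiS, hc]; norm_num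
  exact (hkey j (Finset.mem_erase.1 hj).2 (Finset.mem_erase.1 hj).1).1

open scoped Classical in
/-- Two such characters with inner product two share exactly one constituent. -/
theorem Quad.common (h : Quad o d X Y m g₁ g₂ g₃) (h' : Quad o d X Y m' g₁' g₂' g₃')
    (hd0 : ∀ i, d i ≠ 0) (hin : ∑ i, m i * m' i = 2) :
    ∃ r, r ≠ o ∧ m r ≠ 0 ∧ m' r = m r ∧ ∀ i, i ≠ o → m i ≠ 0 → m' i ≠ 0 → i = r := by
  obtain ⟨hc, hu⟩ := h.card_support
  obtain ⟨hc', hu'⟩ := h'.card_support
  set S := (Finset.univ.erase o).filter fun l => m l ≠ 0 with hS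
  set S' := (Finset.univ.erase o).filter fun l => m' l ≠ 0 with hS'
  have hmem : ∀ i ∈ S ∩ S', i ≠ o ∧ m i ≠ 0 ∧ m' i ≠ 0 := by
    intro i hi
    simp only [hS, hS', Finset.mem_inter, Finset.mem_filter, Finset.mem_erase] at hi
    exact ⟨hi.1.1.1, hi.1.2, hi.2.2⟩
  have hsum : ∑ i ∈ S ∩ S', m i * m' i = 1 := by
    have e := Finset.add_sum_erase Finset.univ (fun i => m i * m' i) (Finset.mem_univ o)
    simp only [h.at_triv, h'.at_triv, hin] at e
    have e2 : ∑ i ∈ S ∩ S', m i * m' i = ∑ i ∈ Finset.univ.erase o, m i * m' i := by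
      refine Finset.sum_subset (fun i hi => ?_) fun i hi hni => ?_
      · simp [(hmem i hi).1]
      · simp only [hS, hS', Finset.mem_inter, Finset.mem_filter, not_and] at hni
        by_cases h0 : m i = 0
        · simp [h0]
        · have := hni ⟨hi, h0⟩ hi
          simp only [ne_eq, not_not] at this
          simp [this]
    omega
  have hprod : ∀ i ∈ S ∩ S', m i * m' i = 1 ∨ m i * m' i = -1 := by
    intro i hi
    obtain ⟨h0, h1, h2⟩ := hmem i hi
    rcases hu i h0 with a | a | a <;> rcases hu' i h0 with b | b | b <;> simp_all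
  have hle : (S ∩ S').card ≤ 3 := hc ▸ Finset.card_le_card Finset.inter_subset_left
  rcases (by omega : (S ∩ S').card = 0 ∨ (S ∩ S').card = 1 ∨ (S ∩ S').card = 2 ∨
      (S ∩ S').card = 3) with k | k | k | k
  · rw [Finset.card_eq_zero.1 k] at hsum; simp at hsum
  · obtain ⟨r, hr⟩ := Finset.card_eq_one.1 k
    have hrm : r ∈ S ∩ S' := by simp [hr]
    obtain ⟨h0, h1, h2⟩ := hmem r hrm
    rw [hr, Finset.sum_singleton] at hsum
    refine ⟨r, h0, h1, ?_, fun i hi hmi hmi' => ?_⟩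
    · rcases hu r h0 with a | a | a <;> rcases hu' r h0 with b | b | b <;> simp_all
    · have : i ∈ S ∩ S' := by simp [hS, hS', hi, hmi, hmi']
      simpa [hr] using this
  · obtain ⟨a, b, hab, he⟩ := Finset.card_eq_two.1 k
    rw [he, Finset.sum_pair hab] at hsum
    rcases hprod a (by simp [he]) with x | x <;> rcases hprod b (by simp [he]) with y | y <;> omega
  · exfalso
    have eS : S ∩ S' = S := Finset.eq_of_subset_of_card_le Finset.inter_subset_left (by omega)
    have eS' : S ∩ S' = S' := Finset.eq_of_subset_of_card_le Finset.inter_subset_right (by omega)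
    obtain ⟨a, b, c, hab, hac, hbc, he⟩ := Finset.card_eq_three.1 k
    have hdiff : ∑ i, (m i - m' i) * (d i : ℤ) = 0 := by
      simp only [sub_mul, Finset.sum_sub_distrib, h.deg, h'.deg, sub_zero]
    have e : ∑ i, (m i - m' i) * (d i : ℤ) =
        (m a - m' a) * d a + ((m b - m' b) * d b + (m c - m' c) * d c) := by
      rw [← Finset.sum_subset (Finset.subset_univ (S ∩ S')) fun i _ hi => ?_, he,
        Finset.sum_insert (by simp [hab, hac]), Finset.sum_pair hbc]
      by_cases hio : i = o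
      · subst hio; simp [h.at_triv, h'.at_triv]
      · have h1 : m i = 0 := by
          by_contra h0; exact hi (eS.symm ▸ (by simp [hS, hio, h0]))
        have h2 : m' i = 0 := by
          by_contra h0; exact hi (eS'.symm ▸ (by simp [hS', hio, h0]))
        simp [h1, h2]
    rw [e] at hdiff
    rw [he, Finset.sum_insert (by simp [hab, hac]), Finset.sum_pair hbc] at hsum
    have da := hd0 a
    have db := hd0 b
    have dc := hd0 c
    have hrel : ∀ i ∈ S ∩ S', (m' i = m i ∧ m i * m' i = 1) ∨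
        (m' i = -m i ∧ m i * m' i = -1) := by
      intro i hi
      obtain ⟨h0, h1, h2⟩ := hmem i hi
      rcases hu i h0 with p | p | p <;> rcases hu' i h0 with q | q | q <;> simp_all
    obtain ⟨o1, na, -⟩ := hmem a (by simp [he])
    obtain ⟨o2, nb, -⟩ := hmem b (by simp [he])
    obtain ⟨o3, nc, -⟩ := hmem c (by simp [he])
    rcases hrel a (by simp [he]) with ⟨p, p'⟩ | ⟨p, p'⟩ <;>
      rcases hrel b (by simp [he]) with ⟨q, q'⟩ | ⟨q, q'⟩ <;>
      rcases hrel c (by simp [he]) with ⟨u, u'⟩ | ⟨u, u'⟩ <;>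
      simp only [p', q', u'] at hsum <;> (try omega) <;>
      simp only [p, q, u, sub_neg_eq_add, sub_self, zero_mul, add_zero, zero_add] at hdiff
    · exact nc (by rcases hu c o3 with e | e | e <;> rw [e] at hdiff ⊢ <;> omega)
    · exact nb (by rcases hu b o2 with e | e | e <;> rw [e] at hdiff ⊢ <;> omega)
    · exact na (by rcases hu a o1 with e | e | e <;> rw [e] at hdiff ⊢ <;> omega)

/-- A signed degree `-1` forces a linear constituent. -/
theorem deg_eq_one {e : ℤ} {n : ℕ} (he : e = 0 ∨ e = 1 ∨ e = -1)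
    (h : 1 + (e : ℂ) * (n : ℂ) = 0) : n = 1 := by
  have : (1 : ℤ) + e * n = 0 := by exact_mod_cast h
  rcases he with rfl | rfl | rfl <;> omega

/-- No linear constituent has coefficient `-1`, so no signed degree is `-1`. -/
theorem ne_zero_of_linear (hm : ∀ i, i ≠ o → d i = 1 → m i ≠ -1)
    (hu : ∀ i, i ≠ o → m i = 0 ∨ m i = 1 ∨ m i = -1) (i : ι) (hi : i ≠ o) :
    1 + (m i : ℂ) * (d i : ℂ) ≠ 0 := fun e => by
  have h1 := deg_eq_one (hu i hi) e
  have h : (1 : ℤ) + m i * 1 = 0 := by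
    have : (1 : ℤ) + m i * (d i : ℤ) = 0 := by exact_mod_cast e
    rwa [h1, Nat.cast_one] at this
  exact hm i hi h1 (by omega)

/-- The case of unfused involution classes. -/
theorem false_of_unfused {mC mD : ι → ℤ} {J : ℂ} (hJ : J ≠ 0) (hd0 : ∀ i, d i ≠ 0)
    (hdo : d o = 1) (hd1 : ∀ i, i ≠ o → d i = 1 → mC i ≠ -1) (hXo : X o = 0) (hYo : Y o = 0)
    (hC : Quad o d X Y mC (J * 36) 0 (J * -36)) (hD : Quad o d X Y mD (J * -36) 0 (J * 36))
    (hin : ∑ i, mC i * mD i = 2) : False := by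
  obtain ⟨r, hr, hmr, he, -⟩ := hC.common hD hd0 hin
  have h1 := (hC.identity hd0 hdo hXo hYo hr hmr).1
  have h2 := (hD.identity hd0 hdo hXo hYo hr (he ▸ hmr)).1
  rw [he] at h2
  have : (1 + (mC r : ℂ) * (d r : ℂ)) * (J * J) = 0 := by
    linear_combination (h1 + h2) / 2592
  exact ne_zero_of_linear hd1 hC.card_support.2 r hr
    ((mul_eq_zero.1 this).resolve_right (mul_ne_zero hJ hJ))

/-- The case of one fused pair of involution classes. -/
theorem false_of_fused {mA mB mC mD : ι → ℤ} {J : ℂ} (hJ : J ≠ 0) (hd0 : ∀ i, d i ≠ 0)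
    (hdo : d o = 1) (hd1 : ∀ i, i ≠ o → d i = 1 → mB i ≠ -1 ∧ mC i ≠ -1)
    (hXo : X o = 0) (hYo : Y o = 0)
    (hA : Quad o d X Y mA (J * 16) 0 (J * 2)) (hB : Quad o d X Y mB (J * 11) (J * 3) J)
    (hC : Quad o d X Y mC (J * 7) (J * 3) (-J)) (hD : Quad o d X Y mD (J * 5) (J * 3) J)
    (hAB : ∑ i, mA i * mB i = 2) (hBC : ∑ i, mB i * mC i = 2)
    (hCD : ∑ i, mC i * mD i = 2) (hAD : ∑ i, mA i * mD i = 2)
    (hcong : ∀ i, (9 : ℤ) ∣ (d i : ℤ) + 4 * (2 * mA i + 2 * mB i - mC i - mD i)) : False := by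
  obtain ⟨r, hr, hmr, hrD, huCD⟩ := hC.common hD hd0 hCD
  obtain ⟨q, hq, hmq, hqC, huBC⟩ := hB.common hC hd0 hBC
  obtain ⟨p, hp, -, hpB, huAB⟩ := hA.common hB hd0 hAB
  obtain ⟨s, hs, -, hsD, huAD⟩ := hA.common hD hd0 hAD
  have rC := (hC.identity hd0 hdo hXo hYo hr hmr).1
  have rD := (hD.identity hd0 hdo hXo hYo hr (hrD ▸ hmr)).1
  have qB := (hB.identity hd0 hdo hXo hYo hq hmq).1
  have qC := (hC.identity hd0 hdo hXo hYo hq (hqC ▸ hmq)).1
  have cross := (hC.identity hd0 hdo hXo hYo hr hmr).2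
  rw [hrD] at rD
  rw [hqC] at qC
  have hr1 := ne_zero_of_linear (fun i hi h => (hd1 i hi h).2) hC.card_support.2 r hr
  have hq1 := ne_zero_of_linear (fun i hi h => (hd1 i hi h).1) hB.card_support.2 q hq
  have har : (mC r : ℂ) * (d r : ℂ) ≠ 0 :=
    mul_ne_zero (Int.cast_ne_zero.2 hmr) (Nat.cast_ne_zero.2 (hd0 r))
  have haq : (mB q : ℂ) * (d q : ℂ) ≠ 0 :=
    mul_ne_zero (Int.cast_ne_zero.2 hmq) (Nat.cast_ne_zero.2 (hd0 q))
  -- the line of `r`
  have hXr : 5 * X r = 13 * Y r := by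
    have hz : (X r - Y r) * (5 * X r - 13 * Y r) = 0 := by
      have : ((mC r : ℂ) * (d r : ℂ) * J) * ((X r - Y r) * (5 * X r - 13 * Y r)) = 0 := by
        linear_combination -rC + 4 * rD
      exact (mul_eq_zero.1 this).resolve_left (mul_ne_zero har hJ)
    rcases mul_eq_zero.1 hz with h | h
    · exfalso
      rw [sub_eq_zero.1 h] at rC
      have : (1 + (mC r : ℂ) * (d r : ℂ)) * (16 * (J * J)) = 0 := by linear_combination rC
      exact hr1 ((mul_eq_zero.1 this).resolve_right (mul_ne_zero (by norm_num) (mul_ne_zero hJ hJ)))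
    · exact sub_eq_zero.1 h
  have hX : X r = 13 / 5 * Y r := by linear_combination hXr / 5
  have hYr : Y r ≠ 0 := by
    intro h0
    rw [hX, h0] at rC
    have : (1 + (mC r : ℂ) * (d r : ℂ)) * (16 * (J * J)) = 0 := by linear_combination rC
    exact hr1 ((mul_eq_zero.1 this).resolve_right (mul_ne_zero (by norm_num) (mul_ne_zero hJ hJ)))
  have hjr : (mC r : ℂ) * (d r : ℂ) * J * (Y r * Y r) ≠ 0 :=
    mul_ne_zero (mul_ne_zero har hJ) (mul_ne_zero hYr hYr)
  -- `r` lies neither in `mA` nor in `mB`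
  have hAr : mA r = 0 := by
    by_contra h
    have e : r = s := huAD r hr h (hrD ▸ hmr)
    have he : mA r = mC r := by rw [← hrD, e, hsD]
    have rA := (hA.identity hd0 hdo hXo hYo hr h).1
    rw [he, hX] at rA
    rw [hX] at rD
    apply hjr
    linear_combination (-5 / 6) * rA + (-20 / 3) * rD
  have hBr : mB r = 0 := by
    by_contra h
    have e : r = q := huBC r hr h hmr
    have he : mB r = mC r := by rw [e, hqC]
    rw [← e, he] at qB
    rw [hX] at rC qB
    apply hjr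
    linear_combination (-25 / 48) * (-rC - 8 * qB)
  have hqr : q ≠ r := fun e => hmq (e ▸ hBr)
  have hDq : mD q = 0 := by
    by_contra h
    exact hqr (huCD q hq (hqC ▸ hmq) h)
  -- the line of `q`
  have hXq : X q = 5 * Y q ∨ X q = 19 / 7 * Y q := by
    have hz : (X q - 5 * Y q) * (7 * X q - 19 * Y q) = 0 := by
      have : ((mB q : ℂ) * (d q : ℂ) * J) * ((X q - 5 * Y q) * (7 * X q - 19 * Y q)) = 0 := by
        linear_combination qC + 8 * qB
      exact (mul_eq_zero.1 this).resolve_left (mul_ne_zero haq hJ)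
    rcases mul_eq_zero.1 hz with h | h
    · exact Or.inl (sub_eq_zero.1 h)
    · exact Or.inr (by linear_combination h / 7)
  have hYq : Y q ≠ 0 := by
    intro h0
    have h0' : X q = 0 := by rcases hXq with e | e <;> rw [e, h0, mul_zero]
    rw [h0, h0'] at qB
    have : (1 + (mB q : ℂ) * (d q : ℂ)) * (2 * (J * J)) = 0 := by linear_combination -qB
    exact hq1 ((mul_eq_zero.1 this).resolve_right (mul_ne_zero (by norm_num) (mul_ne_zero hJ hJ)))
  have hjq : (mB q : ℂ) * (d q : ℂ) * J * (Y q * Y q) ≠ 0 :=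
    mul_ne_zero (mul_ne_zero haq hJ) (mul_ne_zero hYq hYq)
  have hAq : mA q = 0 := by
    by_contra h
    have e : q = p := huAB q hq h hmq
    have he : mA q = mB q := by rw [e, hpB]
    have qA := (hA.identity hd0 hdo hXo hYo hq h).1
    rw [he] at qA
    apply hjq
    rcases hXq with e | e <;> rw [e] at qA qB
    · linear_combination (-1 / 30) * qA + (16 / 30) * qB
    · linear_combination (-7 / 18) * qA + (56 / 9) * qB
  -- congruences
  obtain ⟨k, hk⟩ : ∃ k : ℤ, mC r * (d r : ℤ) = 9 * k - 1 := by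
    have hc := hcong r
    rw [hAr, hBr, hrD] at hc
    rcases hC.card_support.2 r hr with e | e | e
    · exact absurd e hmr
    all_goals rw [e] at hc ⊢; obtain ⟨z, hz⟩ := hc
    · exact ⟨z + 1, by omega⟩
    · exact ⟨-z + 1, by omega⟩
  obtain ⟨l, hl⟩ : ∃ l : ℤ, mB q * (d q : ℤ) = 9 * l - 4 := by
    have hc := hcong q
    rw [hAq, hDq, hqC] at hc
    rcases hB.card_support.2 q hq with e | e | e
    · exact absurd e hmq
    all_goals rw [e] at hc ⊢; obtain ⟨z, hz⟩ := hc
    · exact ⟨z, by omega⟩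
    · exact ⟨-z, by omega⟩
  have cr := cross q hq hqr (hqC ▸ hmq)
  have hYr2 : 24 * ((mC r : ℂ) * (d r : ℂ)) * (Y r * Y r) = 25 * J * (1 + (mC r : ℂ) * (d r : ℂ)) := by
    rw [hX] at rD
    apply mul_left_cancel₀ hJ
    linear_combination (-25 / 4) * rD
  rw [hX] at cr
  rcases hXq with e | e
  · rw [e] at cr qB
    have hYq2 : 3 * ((mB q : ℂ) * (d q : ℂ)) * (Y q * Y q) = J * (1 + (mB q : ℂ) * (d q : ℂ)) := by
      apply mul_left_cancel₀ hJ
      linear_combination (1 / 2) * qB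
    have hcr : 9 * (Y r * Y q) = 5 * J := by
      apply mul_left_cancel₀ hJ
      linear_combination (-5 / 16) * cr
    have : (9 * ((9 * k - 1) + 1) * ((9 * l - 4) + 1) : ℤ) = 8 * (9 * k - 1) * (9 * l - 4) := by
      rw [← hk, ← hl]
      have hJJ : (25 : ℂ) * (J * J) ≠ 0 := mul_ne_zero (by norm_num) (mul_ne_zero hJ hJ)
      have : ((9 * ((mC r : ℂ) * d r + 1) * ((mB q : ℂ) * d q + 1)) : ℂ) =
          8 * ((mC r : ℂ) * d r) * ((mB q : ℂ) * d q) := by
        apply mul_left_cancel₀ hJJ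
        linear_combination -9 * (J * (1 + (mB q : ℂ) * d q)) * hYr2
          - 216 * ((mC r : ℂ) * d r) * (Y r * Y r) * hYq2
          + 8 * ((mC r : ℂ) * d r) * ((mB q : ℂ) * d q) * (9 * (Y r * Y q) + 5 * J) * hcr
      exact_mod_cast this
    ring_nf at this
    omega
  · rw [e] at cr qB
    have hYq2 : 51 * ((mB q : ℂ) * (d q : ℂ)) * (Y q * Y q) =
        49 * J * (1 + (mB q : ℂ) * (d q : ℂ)) := by
      apply mul_left_cancel₀ hJ
      linear_combination (49 / 2) * qB
    have hcr : Y r * Y q = J := by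
      apply mul_left_cancel₀ hJ
      linear_combination (-1 / 16) * cr
    have : (1225 * ((9 * k - 1) + 1) * ((9 * l - 4) + 1) : ℤ) =
        1224 * (9 * k - 1) * (9 * l - 4) := by
      rw [← hk, ← hl]
      have hJJ : J * J ≠ 0 := mul_ne_zero hJ hJ
      have : ((1225 * ((mC r : ℂ) * d r + 1) * ((mB q : ℂ) * d q + 1)) : ℂ) =
          1224 * ((mC r : ℂ) * d r) * ((mB q : ℂ) * d q) := by
        apply mul_left_cancel₀ hJJ
        linear_combination -49 * (J * (1 + (mB q : ℂ) * d q)) * hYr2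
          - 24 * ((mC r : ℂ) * d r) * (Y r * Y r) * hYq2
          + 1224 * ((mC r : ℂ) * d r) * ((mB q : ℂ) * d q) * (Y r * Y q + J) * hcr
      exact_mod_cast this
    ring_nf at this
    omega

end Cfsg.Agent.ThreeSquareDihedral
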