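import Cfsg.Agent.EqLemmas
import Mathlib

/-!
# The model `3^2:D8`

* `Q`: the group, `kind`: its classes of elements
* the special class functions and their tables
-/

set_option autoImplicit false

namespace Cfsg.Agent.ThreeSquareDihedral

/-- The plane over three elements. -/
abbrev V := ZMod 3 × ZMod 3

/-- Rotation by a quarter turn. -/
def rotV (v : V) : V := (-v.2, v.1)

/-- Powers of the rotation. -/
def rotPow : ZMod 4 → V → V
  | 0, v => v
  | 1, v => rotV v
  | 2, v => rotV (rotV v)
  | 3, v => rotV (rotV (rotV v))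

/-- The monomial action of the dihedral group of order eight. -/
def act : DihedralGroup 4 → V → V
  | .r i, v => rotPow i v
  | .sr i, v => ((rotPow i v).1, -(rotPow i v).2)

theorem act_one : ∀ v, act 1 v = v := by decide
theorem act_mul : ∀ g h v, act (g * h) v = act g (act h v) := by decide
theorem act_add : ∀ g v w, act g (v + w) = act g v + act g w := by decide

/-- The action as a homomorphism. -/
def actHom : DihedralGroup 4 →* MulAut (Multiplicative V) where
  toFun g :=
    { toFun := fun v => Multiplicative.ofAdd (act g v.toAdd)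
      invFun := fun v => Multiplicative.ofAdd (act g⁻¹ v.toAdd)
      left_inv := fun v => by simp [← act_mul, act_one]
      right_inv := fun v => by simp [← act_mul, act_one]
      map_mul' := fun v w => by simp [act_add] }
  map_one' := by ext v : 1; simp [act_one]
  map_mul' g h := by ext v : 1; simp [act_mul]

/-- `3^2:D8`. -/
abbrev Q := SemidirectProduct (Multiplicative V) (DihedralGroup 4) actHom

instance instFintypeQ : Fintype Q := Fintype.ofEquiv _ SemidirectProduct.equivProd.symm

/-- An element of the model. -/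
def el (a b : ZMod 3) (g : DihedralGroup 4) : Q := ⟨Multiplicative.ofAdd (a, b), g⟩

/-- The kinds of elements. -/
inductive Kind
  | one | axisPt | diagPt | invAxis | sixAxis | invCent | invDiag | sixDiag | four
  deriving DecidableEq

/-- The kind of an element. -/
def kind (x : Q) : Kind :=
  match x.right with
  | .r i => if (i : ZMod 4) = 0 then
        (if x.left.toAdd = 0 then .one
          else if x.left.toAdd.1 = 0 ∨ x.left.toAdd.2 = 0 then .axisPt else .diagPt)
      else if (i : ZMod 4) = 2 then .invCent else .four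
  | .sr i => if (i : ZMod 4) = 0 ∨ (i : ZMod 4) = 2 then (if x * x = 1 then .invAxis else .sixAxis)
      else (if x * x = 1 then .invDiag else .sixDiag)

/-- The class function with values `p q t u` on the special kinds. -/
def special (p q t u : ℤ) (x : Q) : ℤ :=
  match kind x with
  | .axisPt => p
  | .diagPt => q
  | .sixAxis => t
  | .sixDiag => u
  | _ => 0

/-- The four class functions. -/
def fA : Q → ℤ := special 3 6 3 0
@[inherit_doc fA] def fB : Q → ℤ := special 6 3 0 3
@[inherit_doc fA] def fC : Q → ℤ := special 3 (-3) 3 3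
@[inherit_doc fA] def fD : Q → ℤ := special (-3) 3 3 3

/-- Representatives of the three classes of involutions. -/
def tAxis : Q := el 0 0 (.sr 0)
@[inherit_doc tAxis] def tCent : Q := el 0 0 (.r 2)
@[inherit_doc tAxis] def tDiag : Q := el 0 0 (.sr 1)

/-- The indicators of classes of involutions. -/
def iAxis (x : Q) : ℤ := if kind x = .invAxis then 1 else 0
@[inherit_doc iAxis] def iCent (x : Q) : ℤ := if kind x = .invCent then 1 else 0
@[inherit_doc iAxis] def iDiag (x : Q) : ℤ := if kind x = .invDiag then 1 else 0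

/-- Weighted number of pairs with product in the special classes. -/
def pairSum (a b : Q → ℤ) (f : Q → ℤ) : ℤ := ∑ x, ∑ y, a x * b y * f (x * y)

theorem kind_conj : ∀ x y : Q, kind (y * x * y⁻¹) = kind x := by decide +kernel

theorem special_conj (p q t u : ℤ) (x y : Q) : special p q t u (y * x * y⁻¹) = special p q t u x := by
  simp only [special, kind_conj]

theorem special_pow : ∀ x : Q, kind x = .axisPt ∨ kind x = .diagPt ∨ kind x = .sixAxis ∨
    kind x = .sixDiag → (x * x * (x * x)).right = 1 ∧ x * x * (x * x) ≠ 1 := by decide +kernel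

theorem right_of_cube : ∀ x : Q, x * x * x = 1 → x.right = 1 := by decide +kernel

theorem cube_of_right : ∀ x : Q, x.right = 1 → x * x * x = 1 := by decide +kernel

theorem comm_of_right : ∀ x y : Q, x.right = 1 → y.right = 1 → x * y = y * x := by decide +kernel

theorem kind_one : kind 1 = .one := by decide +kernel

theorem invol_kind : ∀ x : Q, x * x = 1 → x ≠ 1 →
    kind x = .invAxis ∨ kind x = .invCent ∨ kind x = .invDiag := by decide +kernel

theorem kind_invol : ∀ x : Q, kind x = .invAxis ∨ kind x = .invCent ∨ kind x = .invDiag →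
    x * x = 1 ∧ x ≠ 1 := by decide +kernel

theorem exists_conj_axis : ∀ x : Q, kind x = .invAxis → ∃ y, y * tAxis * y⁻¹ = x := by
  decide +kernel

theorem exists_conj_cent : ∀ x : Q, kind x = .invCent → ∃ y, y * tCent * y⁻¹ = x := by
  decide +kernel

theorem exists_conj_diag : ∀ x : Q, kind x = .invDiag → ∃ y, y * tDiag * y⁻¹ = x := by
  decide +kernel

theorem tables_inner :
    (∑ x, fA x = 72 ∧ ∑ x, fB x = 72 ∧ ∑ x, fC x = 72 ∧ ∑ x, fD x = 72) ∧
    (∑ x, fA x * fA x = 288 ∧ ∑ x, fB x * fB x = 288 ∧ ∑ x, fC x * fC x = 288 ∧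
      ∑ x, fD x * fD x = 288) ∧
    (∑ x, fA x * fB x = 144 ∧ ∑ x, fB x * fC x = 144 ∧ ∑ x, fC x * fD x = 144 ∧
      ∑ x, fA x * fD x = 144) := by decide +kernel

theorem tables_congr : ∀ x, 2 * fA x + 2 * fB x - fC x - fD x =
    if x.right = 1 ∧ x ≠ 1 then 18 else 0 := by decide +kernel

theorem tables_unfused :
    pairSum iAxis iAxis fC = 36 ∧ pairSum iAxis iDiag fC = 0 ∧ pairSum iDiag iDiag fC = -36 ∧
    pairSum iAxis iAxis fD = -36 ∧ pairSum iAxis iDiag fD = 0 ∧ pairSum iDiag iDiag fD = 36 := by
  decide +kernel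

theorem tables_fused_axis : let U := fun x => iAxis x + iCent x
    (pairSum U U fA = 576 ∧ pairSum U iDiag fA = 0 ∧ pairSum iDiag iDiag fA = 72) ∧
    (pairSum U U fB = 396 ∧ pairSum U iDiag fB = 108 ∧ pairSum iDiag iDiag fB = 36) ∧
    (pairSum U U fC = 252 ∧ pairSum U iDiag fC = 108 ∧ pairSum iDiag iDiag fC = -36) ∧
    (pairSum U U fD = 180 ∧ pairSum U iDiag fD = 108 ∧ pairSum iDiag iDiag fD = 36) := by
  decide +kernel

theorem tables_fused_diag : let U := fun x => iDiag x + iCent x
    (pairSum U U fB = 576 ∧ pairSum U iAxis fB = 0 ∧ pairSum iAxis iAxis fB = 72) ∧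
    (pairSum U U fA = 396 ∧ pairSum U iAxis fA = 108 ∧ pairSum iAxis iAxis fA = 36) ∧
    (pairSum U U fD = 252 ∧ pairSum U iAxis fD = 108 ∧ pairSum iAxis iAxis fD = -36) ∧
    (pairSum U U fC = 180 ∧ pairSum U iAxis fC = 108 ∧ pairSum iAxis iAxis fC = 36) := by
  decide +kernel

end Cfsg.Agent.ThreeSquareDihedral
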